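import Cfsg.Agent.H223.RIM.Lift

/-!
# S4816 (RIM), row `U₆(2)`: lifts of elementary abelian 2-subgroups normalised by elements of order 5 and 7 (helper223)
-/

set_option autoImplicit false
set_option linter.unusedSectionVars false

namespace Cfsg.Agent.H223.RIM

/-- the relations of the system with an element of order 5 -/
structure Sys5 {G : Type*} [Group G] (x e0 e1 e2 e3 e4 A0 A1 A2 A3 c t : G) : Prop where
  x5 : x ^ 5 = 1
  h0 : x * e0 = e1 * x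
  h1 : x * e1 = e2 * x
  h2 : x * e2 = e3 * x
  h3 : x * e3 = e4 * x
  ee : e0 * e0 = 1
  a0 : A0 * e0 = e1
  a1 : A1 * e1 = e2
  a2 : A2 * e2 = e3
  a3 : A3 * e3 = e4
  g1 : Good e0 e1
  g2 : Good e0 e2
  ac : A0 * c = t * c * A0
  xt : x * t = t * x
  ta : Good t A0
  tc : Good t c
  c1 : Good c A1
  c2 : Good c A2
  c3 : Good c A3

/-- the relations of the system with an element of order 7 -/
structure Sys7 {G : Type*} [Group G] (x e0 e1 e2 e3 A0 : G) : Prop where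
  x7 : x ^ 7 = 1
  h0 : x * e0 = e1 * x
  h1 : x * e1 = e2 * x
  h2 : x * e2 = e3 * x
  ee : e0 * e0 = 1
  e3 : e3 = e0 * e2
  a0 : A0 * e0 = e1
  g1 : Good e0 e1
  g2 : Good e0 e2

section lift

variable {H S : Type*} [Group H] [Group S] {π : H →* S}

theorem conj_comm {a b : H} (h : a * b = b * a) (X : H) :
    (X * a * X⁻¹) * (X * b * X⁻¹) = (X * b * X⁻¹) * (X * a * X⁻¹) := by
  calc (X * a * X⁻¹) * (X * b * X⁻¹) = X * (a * b) * X⁻¹ := by group
    _ = X * (b * a) * X⁻¹ := by rw [h]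
    _ = _ := by group

theorem sq_of {a b z : H} (h : Commute a b) (ha : a * a = z) (hb : b * b = z) : (a * b⁻¹) * (a * b⁻¹) = 1 := by
  calc (a * b⁻¹) * (a * b⁻¹) = a * (b⁻¹ * a) * b⁻¹ := by group
    _ = a * (a * b⁻¹) * b⁻¹ := by rw [(h.inv_right).eq]
    _ = (a * a) * (b * b)⁻¹ := by group
    _ = 1 := by rw [ha, hb, mul_inv_cancel]

variable (hs : Function.Surjective π) (hc : π.ker ≤ Subgroup.center H)

include hs hc in
theorem sys5 {x e0 e1 e2 e3 e4 A0 A1 A2 A3 c t : S} (h : Sys5 x e0 e1 e2 e3 e4 A0 A1 A2 A3 c t) {X C : H}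
    (hX : π X = x) (hC : π C = c) :
    ∃ s : Fin 5 → H, (∀ i, s i * s i = 1) ∧ (∀ i j, s i * s j = s j * s i) ∧ π (s 0) = A0 ∧ π (s 4) = t ∧
      X * s 0 = s 1 * X ∧ X * s 1 = s 2 * X ∧ X * s 2 = s 3 * X ∧ X * s 3 = (s 0 * (s 1 * (s 2 * s 3))) * X ∧
      X * s 4 = s 4 * X ∧ C * s 0 = (s 0 * s 4) * C ∧ C * s 1 = s 1 * C ∧ C * s 2 = s 2 * C ∧ C * s 3 = s 3 * C ∧
      C * s 4 = s 4 * C ∧ s 0 * C = s 4 * C * s 0 := by
  obtain ⟨E0, hE0⟩ := hs e0
  set E1 := X * E0 * X⁻¹ with dE1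
  set E2 := X * E1 * X⁻¹ with dE2
  set E3 := X * E2 * X⁻¹ with dE3
  set E4 := X * E3 * X⁻¹ with dE4
  have hX5 : X ^ 5 ∈ π.ker := by rw [MonoidHom.mem_ker, map_pow, hX, h.x5]
  have hE5 : X * E4 * X⁻¹ = E0 := by
    calc X * E4 * X⁻¹ = X ^ 5 * E0 * (X ^ 5)⁻¹ := by
          have h5 : X ^ 5 = X * X * X * X * X := by simp only [pow_succ, pow_zero, one_mul]
          rw [dE4, dE3, dE2, dE1, h5]; group
      _ = E0 := by rw [← cen hc hX5 E0, mul_inv_cancel_right]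
  have p1 : π E1 = e1 := by rw [dE1, map_mul, map_mul, map_inv, hX, hE0, h.h0, mul_inv_cancel_right]
  have p2 : π E2 = e2 := by rw [dE2, map_mul, map_mul, map_inv, hX, p1, h.h1, mul_inv_cancel_right]
  have p3 : π E3 = e3 := by rw [dE3, map_mul, map_mul, map_inv, hX, p2, h.h2, mul_inv_cancel_right]
  have p4 : π E4 = e4 := by rw [dE4, map_mul, map_mul, map_inv, hX, p3, h.h3, mul_inv_cancel_right]
  have c01 : E0 * E1 = E1 * E0 := comm_of_good hs hc (by rw [hE0, p1]; exact h.g1)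
  have c02 : E0 * E2 = E2 * E0 := comm_of_good hs hc (by rw [hE0, p2]; exact h.g2)
  have c12 : E1 * E2 = E2 * E1 := conj_comm c01 X
  have c23 : E2 * E3 = E3 * E2 := conj_comm c12 X
  have c34 : E3 * E4 = E4 * E3 := conj_comm c23 X
  have c40 : E4 * E0 = E0 * E4 := by
    have := conj_comm c34 X
    rwa [hE5] at this
  have c13 : E1 * E3 = E3 * E1 := conj_comm c02 X
  have c24 : E2 * E4 = E4 * E2 := conj_comm c13 X
  have c30 : E3 * E0 = E0 * E3 := by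
    have := conj_comm c24 X
    rwa [hE5] at this
  have c41 : E4 * E1 = E1 * E4 := conj_comm c30 X
  -- squares
  have hz : E0 * E0 ∈ π.ker := by rw [MonoidHom.mem_ker, map_mul, hE0, h.ee]
  have hsq : ∀ a : H, a * a = E0 * E0 → (X * a * X⁻¹) * (X * a * X⁻¹) = E0 * E0 := by
    intro a ha
    calc (X * a * X⁻¹) * (X * a * X⁻¹) = X * (a * a) * X⁻¹ := by group
      _ = E0 * E0 := by rw [ha, cen hc hz X, mul_inv_cancel_right]
  have q1 : E1 * E1 = E0 * E0 := hsq _ rfl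
  have q2 : E2 * E2 = E0 * E0 := hsq _ q1
  have q3 : E3 * E3 = E0 * E0 := hsq _ q2
  have q4 : E4 * E4 = E0 * E0 := hsq _ q3
  -- the elements
  set s0 := E1 * E0⁻¹ with d0
  set s1 := E2 * E1⁻¹ with d1
  set s2 := E3 * E2⁻¹ with d2
  set s3 := E4 * E3⁻¹ with d3
  have i0 : s0 * s0 = 1 := sq_of (Commute.symm c01) q1 rfl
  have i1 : s1 * s1 = 1 := sq_of (Commute.symm c12) q2 q1
  have i2 : s2 * s2 = 1 := sq_of (Commute.symm c23) q3 q2
  have i3 : s3 * s3 = 1 := sq_of (Commute.symm c34) q4 q3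
  have hcm : ∀ a b c' d : H, Commute a c' → Commute a d → Commute b c' → Commute b d →
      Commute (a * b⁻¹) (c' * d⁻¹) := fun a b c' d k1 k2 k3 k4 =>
    (k1.mul_right k2.inv_right).mul_left ((k3.mul_right k4.inv_right).inv_left)
  have s01 : Commute s0 s1 := hcm _ _ _ _ c12 rfl c02 c01
  have s02 : Commute s0 s2 := hcm _ _ _ _ c13 c12 (Commute.symm c30) c02
  have s03 : Commute s0 s3 := hcm _ _ _ _ (Commute.symm c41) c13 (Commute.symm c40) (Commute.symm c30)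
  have s12 : Commute s1 s2 := hcm _ _ _ _ c23 rfl c13 c12
  have s13 : Commute s1 s3 := hcm _ _ _ _ c24 c23 (Commute.symm c41) c13
  have s23 : Commute s2 s3 := hcm _ _ _ _ c34 rfl c24 c23
  have X0 : X * s0 = s1 * X := by rw [d0, d1, dE2, dE1]; group
  have X1 : X * s1 = s2 * X := by
    rw [d1, d2, dE3]
    calc X * (E2 * E1⁻¹) = X * E2 * X⁻¹ * (X * E1 * X⁻¹)⁻¹ * X := by group
      _ = X * E2 * X⁻¹ * E2⁻¹ * X := by rw [← dE2]
  have X2 : X * s2 = s3 * X := by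
    rw [d2, d3, dE4]
    calc X * (E3 * E2⁻¹) = X * E3 * X⁻¹ * (X * E2 * X⁻¹)⁻¹ * X := by group
      _ = X * E3 * X⁻¹ * E3⁻¹ * X := by rw [← dE3]
  have X3 : X * s3 = (E0 * E4⁻¹) * X := by
    rw [d3]
    calc X * (E4 * E3⁻¹) = X * E4 * X⁻¹ * (X * E3 * X⁻¹)⁻¹ * X := by group
      _ = E0 * E4⁻¹ * X := by rw [← dE4, hE5]
  have hprod : s0 * (s1 * (s2 * s3)) = E4 * E0⁻¹ := by
    have h1 : s0 * (s1 * (s2 * s3)) = s3 * (s2 * s1) * s0 := by
      rw [s23.eq, ← mul_assoc s1, s13.eq, mul_assoc s3, s12.eq, (s03.mul_right (s02.mul_right s01)).eq]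
    rw [h1, d0, d1, d2, d3]
    group
  have hinv : E0 * E4⁻¹ = E4 * E0⁻¹ := by
    have h1 : (E4 * E0⁻¹) * (E4 * E0⁻¹) = 1 := sq_of c40 q4 rfl
    have h2 : E0 * E4⁻¹ = (E4 * E0⁻¹)⁻¹ := by group
    rw [h2]
    exact inv_eq_of_mul_eq_one_left h1
  -- the element `τ`
  set τ := s0 * C * s0⁻¹ * C⁻¹ with dτ
  have pA0 : π s0 = A0 := by rw [d0, map_mul, map_inv, p1, hE0, ← h.a0, mul_inv_cancel_right]
  have pA1 : π s1 = A1 := by rw [d1, map_mul, map_inv, p2, p1, ← h.a1, mul_inv_cancel_right]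
  have pA2 : π s2 = A2 := by rw [d2, map_mul, map_inv, p3, p2, ← h.a2, mul_inv_cancel_right]
  have pA3 : π s3 = A3 := by rw [d3, map_mul, map_inv, p4, p3, ← h.a3, mul_inv_cancel_right]
  have pτ : π τ = t := by
    rw [dτ, map_mul, map_mul, map_mul, map_inv, map_inv, pA0, hC, h.ac]
    group
  have ts0 : τ * s0 = s0 * τ := comm_of_good hs hc (by rw [pA0, pτ]; exact h.ta)
  have tC : τ * C = C * τ := comm_of_good hs hc (by rw [hC, pτ]; exact h.tc)
  have hC0 : C * s0 = τ⁻¹ * s0 * C := by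
    have h1 : τ * (C * s0) = s0 * C := by rw [dτ]; group
    calc C * s0 = τ⁻¹ * (τ * (C * s0)) := by group
      _ = τ⁻¹ * s0 * C := by rw [h1]; group
  have it : τ * τ = 1 := by
    have h1 : (C * s0 * C⁻¹) * (C * s0 * C⁻¹) = 1 := by
      calc (C * s0 * C⁻¹) * (C * s0 * C⁻¹) = C * (s0 * s0) * C⁻¹ := by group
        _ = 1 := by rw [i0]; group
    have h2 : C * s0 * C⁻¹ = τ⁻¹ * s0 := by rw [hC0, mul_inv_cancel_right]
    rw [h2] at h1
    have h3 : Commute τ⁻¹ s0 := (show Commute τ s0 from ts0).inv_left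
    have h4 : (τ⁻¹ * s0) * (τ⁻¹ * s0) = (τ * τ)⁻¹ * (s0 * s0) := by
      calc (τ⁻¹ * s0) * (τ⁻¹ * s0) = τ⁻¹ * (s0 * τ⁻¹) * s0 := by group
        _ = τ⁻¹ * (τ⁻¹ * s0) * s0 := by rw [h3.eq]
        _ = _ := by group
    rw [h4, i0, mul_one] at h1
    exact inv_eq_one.1 h1
  have tX : τ * X = X * τ := comm_of_odd hc it (n := 5) (by rw [hX]; exact h.x5) (by decide) (by
    rw [pτ, hX]; exact h.xt.symm)
  have hti : τ⁻¹ = τ := inv_eq_of_mul_eq_one_left it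
  have tn : ∀ a : H, τ * a = a * τ → τ * (X * a * X⁻¹) = (X * a * X⁻¹) * τ := by
    intro a ha
    have k1 : Commute τ X := tX
    have k2 : Commute τ a := ha
    exact ((k1.mul_right k2).mul_right k1.inv_right).eq
  have eX0 : s1 = X * s0 * X⁻¹ := by rw [X0, mul_inv_cancel_right]
  have eX1 : s2 = X * s1 * X⁻¹ := by rw [X1, mul_inv_cancel_right]
  have eX2 : s3 = X * s2 * X⁻¹ := by rw [X2, mul_inv_cancel_right]
  have ts1 : τ * s1 = s1 * τ := by rw [eX0]; exact tn _ ts0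
  have ts2 : τ * s2 = s2 * τ := by rw [eX1]; exact tn _ ts1
  have ts3 : τ * s3 = s3 * τ := by rw [eX2]; exact tn _ ts2
  have cC1 : C * s1 = s1 * C := comm_of_good hs hc (by rw [pA1, hC]; exact h.c1)
  have cC2 : C * s2 = s2 * C := comm_of_good hs hc (by rw [pA2, hC]; exact h.c2)
  have cC3 : C * s3 = s3 * C := comm_of_good hs hc (by rw [pA3, hC]; exact h.c3)
  refine ⟨![s0, s1, s2, s3, τ], ?_, ?_, pA0, pτ, X0, X1, X2, ?_, tX.symm, ?_, cC1, cC2, cC3, tC.symm, ?_⟩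
  · intro i
    fin_cases i
    exacts [i0, i1, i2, i3, it]
  · intro i j
    fin_cases i <;> fin_cases j
    exacts [rfl, s01, s02, s03, ts0.symm, s01.symm, rfl, s12, s13, ts1.symm, s02.symm, s12.symm, rfl, s23, ts2.symm,
      s03.symm, s13.symm, s23.symm, rfl, ts3.symm, ts0, ts1, ts2, ts3, rfl]
  · change X * s3 = (s0 * (s1 * (s2 * s3))) * X
    rw [hprod, X3, hinv]
  · change C * s0 = (s0 * τ) * C
    rw [hC0, hti, ts0]
  · change s0 * C = τ * C * s0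
    rw [dτ]; group

include hs hc in
theorem sys7 {x e0 e1 e2 e3 A0 : S} (h : Sys7 x e0 e1 e2 e3 A0) {X : H} (hX : π X = x) :
    ∃ s : Fin 3 → H, (∀ i, s i * s i = 1) ∧ (∀ i j, s i * s j = s j * s i) ∧ π (s 0) = A0 ∧
      X * s 0 = s 1 * X ∧ X * s 1 = s 2 * X ∧ X * s 2 = (s 0 * s 2) * X := by
  obtain ⟨E0, hE0⟩ := hs e0
  set E1 := X * E0 * X⁻¹ with dE1
  set E2 := X * E1 * X⁻¹ with dE2
  set E3 := X * E2 * X⁻¹ with dE3
  set E4 := X * E3 * X⁻¹ with dE4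
  have p1 : π E1 = e1 := by rw [dE1, map_mul, map_mul, map_inv, hX, hE0, h.h0, mul_inv_cancel_right]
  have p2 : π E2 = e2 := by rw [dE2, map_mul, map_mul, map_inv, hX, p1, h.h1, mul_inv_cancel_right]
  have p3 : π E3 = e3 := by rw [dE3, map_mul, map_mul, map_inv, hX, p2, h.h2, mul_inv_cancel_right]
  have c01 : E0 * E1 = E1 * E0 := comm_of_good hs hc (by rw [hE0, p1]; exact h.g1)
  have c02 : E0 * E2 = E2 * E0 := comm_of_good hs hc (by rw [hE0, p2]; exact h.g2)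
  have c12 : E1 * E2 = E2 * E1 := conj_comm c01 X
  have c23 : E2 * E3 = E3 * E2 := conj_comm c12 X
  have c13 : E1 * E3 = E3 * E1 := conj_comm c02 X
  obtain ⟨κ, hκ, e⟩ := exists_ker (π := π) (a := E3) (b := E0 * E2) (by rw [p3, map_mul, hE0, p2, h.e3])
  have kκ := cen hc hκ
  have k0 : Commute E0 κ := kκ E0
  have k1 : Commute E1 κ := kκ E1
  have c03 : E0 * E3 = E3 * E0 := by
    rw [e]
    exact (k0.mul_right ((Commute.refl E0).mul_right (show Commute E0 E2 from c02))).eq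
  have hz : E0 * E0 ∈ π.ker := by rw [MonoidHom.mem_ker, map_mul, hE0, h.ee]
  have hsq : ∀ a : H, a * a = E0 * E0 → (X * a * X⁻¹) * (X * a * X⁻¹) = E0 * E0 := by
    intro a ha
    calc (X * a * X⁻¹) * (X * a * X⁻¹) = X * (a * a) * X⁻¹ := by group
      _ = E0 * E0 := by rw [ha, cen hc hz X, mul_inv_cancel_right]
  have q1 : E1 * E1 = E0 * E0 := hsq _ rfl
  have q2 : E2 * E2 = E0 * E0 := hsq _ q1
  have q3 : E3 * E3 = E0 * E0 := hsq _ q2
  set s0 := E1 * E0⁻¹ with d0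
  set s1 := E2 * E1⁻¹ with d1
  set s2 := E3 * E2⁻¹ with d2
  have i0 : s0 * s0 = 1 := sq_of (Commute.symm c01) q1 rfl
  have i1 : s1 * s1 = 1 := sq_of (Commute.symm c12) q2 q1
  have i2 : s2 * s2 = 1 := sq_of (Commute.symm c23) q3 q2
  have hcm : ∀ a b c' d : H, Commute a c' → Commute a d → Commute b c' → Commute b d →
      Commute (a * b⁻¹) (c' * d⁻¹) := fun a b c' d k1 k2 k3 k4 =>
    (k1.mul_right k2.inv_right).mul_left ((k3.mul_right k4.inv_right).inv_left)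
  have s01 : Commute s0 s1 := hcm _ _ _ _ c12 rfl c02 c01
  have s02 : Commute s0 s2 := hcm _ _ _ _ c13 c12 c03 c02
  have s12 : Commute s1 s2 := hcm _ _ _ _ c23 rfl c13 c12
  have X0 : X * s0 = s1 * X := by rw [d0, d1, dE2, dE1]; group
  have X1 : X * s1 = s2 * X := by
    rw [d1, d2, dE3]
    calc X * (E2 * E1⁻¹) = X * E2 * X⁻¹ * (X * E1 * X⁻¹)⁻¹ * X := by group
      _ = X * E2 * X⁻¹ * E2⁻¹ * X := by rw [← dE2]
  have e4 : E4 = κ * (E1 * E3) := by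
    calc E4 = X * (κ * (E0 * E2)) * X⁻¹ := by rw [dE4, e]
      _ = (X * κ) * (E0 * E2) * X⁻¹ := by group
      _ = (κ * X) * (E0 * E2) * X⁻¹ := by rw [kκ X]
      _ = κ * ((X * E0 * X⁻¹) * (X * E2 * X⁻¹)) := by group
  have X2 : X * s2 = (s0 * s2) * X := by
    have h1 : X * s2 = (E4 * E3⁻¹) * X := by
      rw [d2]
      calc X * (E3 * E2⁻¹) = X * E3 * X⁻¹ * (X * E2 * X⁻¹)⁻¹ * X := by group
        _ = _ := by rw [← dE3]
    have h2 : E4 * E3⁻¹ = s0 * s2 := by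
      calc E4 * E3⁻¹ = κ * (E1 * E3) * (κ * (E0 * E2))⁻¹ := by rw [e4, ← e]
        _ = κ * (E1 * E3) * ((E0 * E2)⁻¹ * κ⁻¹) := by rw [mul_inv_rev κ]
        _ = E1 * E3 * E2⁻¹ * E0⁻¹ := by
            have h3 : Commute (E1 * E3 * (E0 * E2)⁻¹) κ := kκ _
            calc κ * (E1 * E3) * ((E0 * E2)⁻¹ * κ⁻¹) = (κ * (E1 * E3 * (E0 * E2)⁻¹)) * κ⁻¹ := by group
              _ = (E1 * E3 * (E0 * E2)⁻¹ * κ) * κ⁻¹ := by rw [h3.eq]
              _ = E1 * E3 * E2⁻¹ * E0⁻¹ := by group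
        _ = E1 * ((E3 * E2⁻¹) * E0⁻¹) := by group
        _ = E1 * (E0⁻¹ * (E3 * E2⁻¹)) := by
            have h3 : Commute E0⁻¹ (E3 * E2⁻¹) :=
              ((show Commute E0 E3 from c03).mul_right (show Commute E0 E2 from c02).inv_right).inv_left
            rw [h3.eq]
        _ = s0 * s2 := by rw [d0, d2]; group
    rw [h1, h2]
  have pA0 : π s0 = A0 := by rw [d0, map_mul, map_inv, p1, hE0, ← h.a0, mul_inv_cancel_right]
  refine ⟨![s0, s1, s2], ?_, ?_, pA0, X0, X1, X2⟩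
  · intro i
    fin_cases i
    exacts [i0, i1, i2]
  · intro i j
    fin_cases i <;> fin_cases j
    exacts [rfl, s01, s02, s01.symm, rfl, s12, s02.symm, s12.symm, rfl]

end lift

end Cfsg.Agent.H223.RIM
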