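import Cfsg.Agent.H223.RIM.Wt
import Cfsg.Agent.H223.RIM.Sys
import Cfsg.Agent.H524.RIM.PX

/-!
# S4816 (RIM), row `U₆(2)`: the bounds (helper223)
-/

set_option autoImplicit false
set_option linter.unusedSectionVars false

namespace Cfsg.Agent.H223.RIM

open Cfsg.Agent.H257.RIM Cfsg.Agent.H524.RIM

def mx : Fin 5 → Fin 32 := ![2, 4, 8, 15, 16]
def nx : Fin 5 → Fin 32 := ![3, 5, 9, 1, 16]
def mc : Fin 5 → Fin 32 := ![17, 2, 4, 8, 16]
def nc : Fin 5 → Fin 32 := ![1, 2, 4, 8, 17]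
def m7 : Fin 5 → Fin 32 := ![2, 4, 5, 8, 16]
def n7 : Fin 5 → Fin 32 := ![2, 5, 1, 8, 16]

set_option maxRecDepth 100000

theorem inj_x : ∀ i j, sg mx i = sg mx j → i = j := by decide +kernel
theorem inj_c : ∀ i j, sg mc i = sg mc j → i = j := by decide +kernel
theorem inj_7 : ∀ i j, sg m7 i = sg m7 j → i = j := by decide +kernel
theorem dual_x : ∀ c i, ch (sg nx c) (sg mx i) = ch c i := by decide +kernel
theorem dual_c : ∀ c i, ch (sg nc c) (sg mc i) = ch c i := by decide +kernel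
theorem dual_7 : ∀ c i, ch (sg n7 c) (sg m7 i) = ch c i := by decide +kernel

/-- the flips -/
theorem flip0 : ∀ c, ch c 16 = -1 → sg nc c = xr c 1 := by decide +kernel
theorem flip1 : ∀ c, ch c 16 = -1 → (sg nx)^[1] (sg nc ((sg nx)^[4] c)) = xr c 3 := by decide +kernel
theorem flip2 : ∀ c, ch c 16 = -1 → (sg nx)^[2] (sg nc ((sg nx)^[3] c)) = xr c 6 := by decide +kernel
theorem flip3 : ∀ c, ch c 16 = -1 → (sg nx)^[3] (sg nc ((sg nx)^[2] c)) = xr c 12 := by decide +kernel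
theorem flip_neg : ∀ c, ch c 16 = -1 → ch (xr c 1) 16 = -1 ∧ ch (xr c 3) 16 = -1 ∧ ch (xr c 6) 16 = -1 ∧
    ch (xr c 12) 16 = -1 := by decide +kernel
theorem flip_all : ∀ c c' : Fin 32, ch c 16 = -1 → ch c' 16 = -1 → ∃ b0 b1 b2 b3 : Bool,
    (bif b3 then xr (bif b2 then xr (bif b1 then xr (bif b0 then xr c 1 else c) 3 else (bif b0 then xr c 1 else c)) 6
      else (bif b1 then xr (bif b0 then xr c 1 else c) 3 else (bif b0 then xr c 1 else c))) 12
      else (bif b2 then xr (bif b1 then xr (bif b0 then xr c 1 else c) 3 else (bif b0 then xr c 1 else c)) 6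
      else (bif b1 then xr (bif b0 then xr c 1 else c) 3 else (bif b0 then xr c 1 else c)))) = c' := by decide +kernel

section

variable {p : ℕ} [Fact p.Prime] {H V : Type*} [Group H] [Finite H] [AddCommGroup V] [Finite V] [DistribMulAction H V]
  {s : Fin 5 → H}

/-- conjugation by `X` -/
theorem hg_x {X : H} (h0 : X * s 0 = s 1 * X) (h1 : X * s 1 = s 2 * X) (h2 : X * s 2 = s 3 * X)
    (h3 : X * s 3 = (s 0 * (s 1 * (s 2 * s 3))) * X) (h4 : X * s 4 = s 4 * X) (k : Fin 5) :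
    X * s k = el s (mx k) * X := by
  obtain ⟨e1, e2, e4, e8, e16⟩ := el_gen s
  have e15 : el s 15 = s 0 * (s 1 * (s 2 * s 3)) := by
    simp [el, bt, pb, Nat.testBit, Nat.shiftRight_eq_div_pow]
  fin_cases k
  · exact h0.trans (by rw [← e2]; rfl)
  · exact h1.trans (by rw [← e4]; rfl)
  · exact h2.trans (by rw [← e8]; rfl)
  · exact h3.trans (by rw [← e15]; rfl)
  · exact h4.trans (by rw [← e16]; rfl)

theorem hg_c {C : H} (h0 : C * s 0 = (s 0 * s 4) * C) (h1 : C * s 1 = s 1 * C) (h2 : C * s 2 = s 2 * C)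
    (h3 : C * s 3 = s 3 * C) (h4 : C * s 4 = s 4 * C) (k : Fin 5) :
    C * s k = el s (mc k) * C := by
  obtain ⟨e1, e2, e4, e8, e16⟩ := el_gen s
  have e17 : el s 17 = s 0 * s 4 := by
    simp [el, bt, pb, Nat.testBit, Nat.shiftRight_eq_div_pow]
  fin_cases k
  · exact h0.trans (by rw [← e17]; rfl)
  · exact h1.trans (by rw [← e2]; rfl)
  · exact h2.trans (by rw [← e4]; rfl)
  · exact h3.trans (by rw [← e8]; rfl)
  · exact h4.trans (by rw [← e16]; rfl)

theorem hg_7 {X : H} (h0 : X * s 0 = s 1 * X) (h1 : X * s 1 = s 2 * X) (h2 : X * s 2 = (s 0 * s 2) * X)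
    (h3 : X * s 3 = s 3 * X) (h4 : X * s 4 = s 4 * X) (k : Fin 5) :
    X * s k = el s (m7 k) * X := by
  obtain ⟨e1, e2, e4, e8, e16⟩ := el_gen s
  have e5 : el s 5 = s 0 * s 2 := by
    simp [el, bt, pb, Nat.testBit, Nat.shiftRight_eq_div_pow]
  fin_cases k
  · exact h0.trans (by rw [← e2]; rfl)
  · exact h1.trans (by rw [← e4]; rfl)
  · exact h2.trans (by rw [← e5]; rfl)
  · exact h3.trans (by rw [← e8]; rfl)
  · exact h4.trans (by rw [← e16]; rfl)

/-- the 16 weights -/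
theorem nz_all (hV : ∀ v : V, p • v = 0) (hp2 : p ≠ 2) (h1 : ∀ i, s i * s i = 1)
    (h2 : ∀ i j, s i * s j = s j * s i) {X C : H} (hX : ∀ k, X * s k = el s (mx k) * X)
    (hC : ∀ k, C * s k = el s (mc k) * C) {v : V} (hv : s 4 • v ≠ v) (c : Fin 32) (hc : ch c 16 = -1) : NZ V s c := by
  have rx : ∀ c, Rel (el s) X (ch c) (ch (sg nx c)) := rel_of h1 h2 hX inj_x dual_x
  have rc : ∀ c, Rel (el s) C (ch c) (ch (sg nc c)) := rel_of h1 h2 hC inj_c dual_c
  have ix : ∀ k c, NZ V s c → NZ V s ((sg nx)^[k] c) := fun k c h => NZ.rel (rel_iter rx k c) h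
  have ic : ∀ c, NZ V s c → NZ V s (sg nc c) := fun c h => NZ.rel (rc c) h
  obtain ⟨c0, hc0, hn0⟩ := exists_NZ hV hp2 h1 h2 (j := 16) (v := v) (by rw [(el_gen s).2.2.2.2]; exact hv)
  have f0 : ∀ c, ch c 16 = -1 → NZ V s c → NZ V s (xr c 1) := by
    intro c hc h
    rw [← flip0 c hc]
    exact ic _ h
  have f1 : ∀ c, ch c 16 = -1 → NZ V s c → NZ V s (xr c 3) := by
    intro c hc h
    rw [← flip1 c hc]
    exact ix 1 _ (ic _ (ix 4 _ h))
  have f2 : ∀ c, ch c 16 = -1 → NZ V s c → NZ V s (xr c 6) := by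
    intro c hc h
    rw [← flip2 c hc]
    exact ix 2 _ (ic _ (ix 3 _ h))
  have f3 : ∀ c, ch c 16 = -1 → NZ V s c → NZ V s (xr c 12) := by
    intro c hc h
    rw [← flip3 c hc]
    exact ix 3 _ (ic _ (ix 2 _ h))
  let Q : Fin 32 → Prop := fun c => ch c 16 = -1 ∧ NZ V s c
  have g0 : ∀ (b : Bool) c, Q c → Q (bif b then xr c 1 else c) := by
    intro b c h
    cases b
    · exact h
    · exact ⟨(flip_neg c h.1).1, f0 c h.1 h.2⟩
  have g1 : ∀ (b : Bool) c, Q c → Q (bif b then xr c 3 else c) := by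
    intro b c h
    cases b
    · exact h
    · exact ⟨(flip_neg c h.1).2.1, f1 c h.1 h.2⟩
  have g2 : ∀ (b : Bool) c, Q c → Q (bif b then xr c 6 else c) := by
    intro b c h
    cases b
    · exact h
    · exact ⟨(flip_neg c h.1).2.2.1, f2 c h.1 h.2⟩
  have g3 : ∀ (b : Bool) c, Q c → Q (bif b then xr c 12 else c) := by
    intro b c h
    cases b
    · exact h
    · exact ⟨(flip_neg c h.1).2.2.2, f3 c h.1 h.2⟩
  obtain ⟨b0, b1, b2, b3, hb⟩ := flip_all c0 c hc0 hc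
  have := g3 b3 _ (g2 b2 _ (g1 b1 _ (g0 b0 _ ⟨hc0, hn0⟩)))
  rw [hb] at this
  exact this.2

/-- the index of the fixed points of an element -/
noncomputable def ix (V : Type*) [AddCommGroup V] [DistribMulAction H V] (x : H) : ℕ := (fx V (Subgroup.zpowers x)).index

theorem card_mul_ix (x : H) : Nat.card {v : V // x • v = v} * ix V x = Nat.card V := by
  have h1 : Nat.card {v : V // x • v = v} = Nat.card (fx V (Subgroup.zpowers x)) :=
    Nat.card_congr (Equiv.subtypeEquivRight fun v => mem_fx_zpowers.symm)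
  rw [h1]
  exact card_mul_index V _

theorem card_fix_pos (x : H) : 0 < Nat.card {v : V // x • v = v} :=
  Nat.card_pos_iff.2 ⟨⟨⟨0, smul_zero x⟩⟩, inferInstance⟩

theorem ix_mul_le (x y : H) : ix V (x * y) ≤ ix V x * ix V y := index_fx_mul_le x y

theorem ix_conj (g x : H) : ix V (g * x * g⁻¹) = ix V x := by
  unfold ix
  rw [← index_fx_conj (V := V) (Subgroup.zpowers x) g]
  congr 2
  exact ((MonoidHom.map_zpowers (MulAut.conj g).toMonoidHom x).trans rfl).symm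

theorem ix_mono {x y : H} (h : ∀ v : V, y • v = v → x • v = v) : ix V x ≤ ix V y := by
  unfold ix
  refine Nat.le_of_dvd (Nat.pos_of_ne_zero AddSubgroup.index_ne_zero_of_finite) (AddSubgroup.index_dvd_of_le ?_)
  intro v hv
  exact mem_fx_zpowers.2 (h v (mem_fx_zpowers.1 hv))

/-- the bound for `τ` -/
theorem bound_tau (hV : ∀ v : V, p • v = 0) (hp2 : p ≠ 2) (h1 : ∀ i, s i * s i = 1)
    (h2 : ∀ i j, s i * s j = s j * s i) {X C : H} (hX : ∀ k, X * s k = el s (mx k) * X)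
    (hC : ∀ k, C * s k = el s (mc k) * C) {v : V} (hv : s 4 • v ≠ v) : p ^ 16 ≤ ix V (s 4) := by
  have h3 := fix_bound (V := V) hV hp2 h1 h2 16
  rw [(el_gen s).2.2.2.2, ← card_mul_ix (V := V) (s 4)] at h3
  have h4 := Nat.le_of_mul_le_mul_left h3 (card_fix_pos _)
  refine le_trans ?_ h4
  have h5 : (Finset.univ.filter (fun c : Fin 32 => ch c 16 = -1)).card = 16 := by decide +kernel
  calc p ^ 16 = ∏ _c ∈ Finset.univ.filter (fun c : Fin 32 => ch c 16 = -1), p := by rw [Finset.prod_const, h5]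
    _ ≤ _ := Finset.prod_le_prod' fun c hc => (nz_all hV hp2 h1 h2 hX hC hv c (Finset.mem_filter.1 hc).2).le hV

theorem orb5 : ∀ c : Fin 32, ∃ r ∈ (Finset.univ.filter (fun c : Fin 32 => ch c 16 = 1)) ∪ {16, 17, 18, 23},
    ∃ k : Fin 5, (sg nx)^[(k : ℕ)] r = c := by decide +kernel

theorem compl5 : ((Finset.univ.filter (fun c : Fin 32 => ch c 16 = 1)) ∪ {16, 17, 18, 23})ᶜ.card = 12 ∧
    ∀ c ∈ ((Finset.univ.filter (fun c : Fin 32 => ch c 16 = 1)) ∪ {16, 17, 18, 23})ᶜ, ch c 16 = -1 := by decide +kernel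

/-- the bound for `p = 5` -/
theorem bound_five (hV : ∀ v : V, p • v = 0) (hp2 : p ≠ 2) (h1 : ∀ i, s i * s i = 1)
    (h2 : ∀ i j, s i * s j = s j * s i) {X C : H} (hX : ∀ k, X * s k = el s (mx k) * X)
    (hC : ∀ k, C * s k = el s (mc k) * C) {v : V} (hv : s 4 • v ≠ v) (P : Subgroup H) (hP : X ∈ P) :
    Nat.card (Fx V P) * p ^ 12 ≤ Nat.card V := by
  refine le_trans (Nat.mul_le_mul_left _ ?_) (fx_bound (V := V) hV hp2 h1 h2 P
    ((Finset.univ.filter (fun c : Fin 32 => ch c 16 = 1)) ∪ {16, 17, 18, 23}) ?_)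
  · rw [← compl5.1, ← Finset.prod_const]
    exact Finset.prod_le_prod' fun c hc => (nz_all hV hp2 h1 h2 hX hC hv c (compl5.2 c hc)).le hV
  · intro c
    obtain ⟨r, hr, k, hk⟩ := orb5 c
    refine ⟨r, hr, X ^ (k : ℕ), P.pow_mem hP _, ?_⟩
    rw [← hk]
    exact rel_iter (rel_of h1 h2 hX inj_x dual_x) k r

theorem orb7 : ∀ c : Fin 32, ∃ r ∈ ({2, 3, 4, 5, 6, 7}ᶜ : Finset (Fin 32)),
    ∃ k : Fin 7, (sg n7)^[(k : ℕ)] r = c := by decide +kernel

theorem orb7' : ∀ c : Fin 32, c ≠ 0 → c < 8 → ∃ k : Fin 7, (sg n7)^[(k : ℕ)] 1 = c := by decide +kernel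

theorem neg7 : ∀ c : Fin 32, ch c 1 = -1 → c ∈ ({1, 3, 5, 7} : Finset (Fin 32)) ∨ ch c 8 = -1 ∨ ch c 16 = -1 := by
  decide +kernel

/-- the bound for `p = 7` -/
theorem bound_seven (hV : ∀ v : V, p • v = 0) (hp2 : p ≠ 2) (h1 : ∀ i, s i * s i = 1)
    (h2 : ∀ i j, s i * s j = s j * s i) {X : H} (hX : ∀ k, X * s k = el s (m7 k) * X) (h3 : s 3 = 1) (h4 : s 4 = 1)
    (hix : p ^ 16 ≤ ix V (s 0) * ix V (s 0)) (P : Subgroup H) (hP : X ∈ P) :
    Nat.card (Fx V P) * p ^ 12 ≤ Nat.card V := by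
  have r7 : ∀ c, Rel (el s) X (ch c) (ch (sg n7 c)) := rel_of h1 h2 hX inj_7 dual_7
  have ha : ∀ c : Fin 32, c ≠ 0 → c < 8 → vc V s c = vc V s 1 := by
    intro c h0 h8
    obtain ⟨k, rfl⟩ := orb7' c h0 h8
    exact (vc_eq_of_rel (rel_iter r7 k 1)).symm
  obtain ⟨e1, -, -, e8, e16⟩ := el_gen s
  -- upper bound for the index of `s 0`
  have h5 : ix V (s 0) ≤ vc V s 1 ^ 4 := by
    have h6 := fix_bound' (V := V) hV hp2 h1 h2 1
    rw [e1, ← card_mul_ix (V := V) (s 0)] at h6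
    refine (Nat.le_of_mul_le_mul_left h6 (card_fix_pos _)).trans ?_
    calc ∏ c ∈ Finset.univ.filter (fun c => ch c 1 = -1), vc V s c
        ≤ ∏ c ∈ ({1, 3, 5, 7} : Finset (Fin 32)), vc V s c := by
          refine le_of_eq (Finset.prod_subset ?_ ?_).symm
          · intro c hc
            have : ∀ c ∈ ({1, 3, 5, 7} : Finset (Fin 32)), ch c 1 = -1 := by decide +kernel
            exact Finset.mem_filter.2 ⟨Finset.mem_univ _, this c hc⟩
          · intro c hc hc'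
            rcases neg7 c (Finset.mem_filter.1 hc).2 with h | h | h
            · exact absurd h hc'
            · exact vc_eq_one hV hp2 h1 h2 (j := 8) (fun v => by rw [e8, h3, one_smul]) h
            · exact vc_eq_one hV hp2 h1 h2 (j := 16) (fun v => by rw [e16, h4, one_smul]) h
      _ = ∏ _c ∈ ({1, 3, 5, 7} : Finset (Fin 32)), vc V s 1 := by
          refine Finset.prod_congr rfl fun c hc => ha c ?_ ?_
          · have : ∀ c ∈ ({1, 3, 5, 7} : Finset (Fin 32)), c ≠ 0 := by decide +kernel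
            exact this c hc
          · have : ∀ c ∈ ({1, 3, 5, 7} : Finset (Fin 32)), c < 8 := by decide +kernel
            exact this c hc
      _ = vc V s 1 ^ 4 := by rw [Finset.prod_const]; rfl
  have h7 : p ^ 2 ≤ vc V s 1 := by
    obtain ⟨m, hm⟩ := vc_pow (V := V) (s := s) hV 1
    rw [hm] at h5 ⊢
    have h8 : p ^ 16 ≤ p ^ (8 * m) := by
      refine hix.trans ((Nat.mul_le_mul h5 h5).trans (le_of_eq ?_))
      ring
    have h9 := (Nat.pow_le_pow_iff_right (Fact.out : p.Prime).one_lt).1 h8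
    exact Nat.pow_le_pow_right (Fact.out : p.Prime).pos (by omega)
  refine le_trans (Nat.mul_le_mul_left _ ?_) (fx_bound (V := V) hV hp2 h1 h2 P
    ({2, 3, 4, 5, 6, 7}ᶜ : Finset (Fin 32)) ?_)
  · rw [compl_compl]
    calc p ^ 12 = ∏ _c ∈ ({2, 3, 4, 5, 6, 7} : Finset (Fin 32)), p ^ 2 := by
          rw [Finset.prod_const, ← pow_mul]; rfl
      _ ≤ _ := by
          refine Finset.prod_le_prod' fun c hc => ?_
          rw [ha c]
          · exact h7
          · have : ∀ c ∈ ({2, 3, 4, 5, 6, 7} : Finset (Fin 32)), c ≠ 0 := by decide +kernel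
            exact this c hc
          · have : ∀ c ∈ ({2, 3, 4, 5, 6, 7} : Finset (Fin 32)), c < 8 := by decide +kernel
            exact this c hc
  · intro c
    obtain ⟨r, hr, k, hk⟩ := orb7 c
    refine ⟨r, hr, X ^ (k : ℕ), P.pow_mem hP _, ?_⟩
    rw [← hk]
    exact rel_iter r7 k r

end

end Cfsg.Agent.H223.RIM
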