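import Cfsg.Agent.H223.RIM.Lift

/-!
# S4816 (RIM), row `U₆(2)`: Sylow subgroups of prime order of a central extension (helper223)
-/

set_option autoImplicit false
set_option linter.unusedSectionVars false

namespace Cfsg.Agent.H223.RIM

open Subgroup

section

variable {H S : Type*} [Group H] [Group S] {π : H →* S} (hs : Function.Surjective π)
  (hc : π.ker ≤ Subgroup.center H)

theorem pow_eq_one_of_coprime {H : Type*} [Group H] [Finite H] {p : ℕ} (hp : p.Prime) {K : Subgroup H}
    (hK : ¬ p ∣ Nat.card K) {κ : H} (hκ : κ ∈ K) (h : κ ^ p = 1) : κ = 1 := by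
  have h1 : orderOf κ ∣ p := orderOf_dvd_of_pow_eq_one h
  rcases (Nat.dvd_prime hp).1 h1 with h2 | h2
  · exact orderOf_eq_one_iff.1 h2
  · exfalso
    apply hK
    rw [← h2]
    have h3 := orderOf_dvd_natCard (⟨κ, hκ⟩ : K)
    rwa [← Subgroup.orderOf_coe] at h3

include hc in
/-- a lift of order `p` -/
theorem exists_lift [Finite H] {p : ℕ} (hp : p.Prime) (hK : ¬ p ∣ Nat.card π.ker) {h0 : H} (h1 : π h0 ^ p = 1) :
    ∃ X : H, π X = π h0 ∧ X ^ p = 1 := by
  obtain ⟨k, hk⟩ := Nat.exists_mul_mod_eq_one_of_coprime ((hp.coprime_iff_not_dvd.2 hK).symm) hp.one_lt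
  have hk' := hk.2
  set n := Nat.card π.ker with hn
  refine ⟨h0 ^ (n * k), ?_, ?_⟩
  · rw [map_pow, ← Nat.div_add_mod (n * k) p, hk', pow_add, pow_mul, h1, one_pow, one_mul, pow_one]
  · have h2 : h0 ^ p ∈ π.ker := by rw [MonoidHom.mem_ker, map_pow, h1]
    have h3 : (h0 ^ p) ^ n = 1 := by
      have := pow_card_eq_one' (x := (⟨h0 ^ p, h2⟩ : π.ker))
      exact congrArg Subtype.val this
    rw [← pow_mul, mul_comm, pow_mul, pow_mul, h3, one_pow]

include hs hc in
/-- the normalizer of a lift of an element of order `p` -/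
theorem norm_le [Finite H] {p : ℕ} (hp : p.Prime) (hK : ¬ p ∣ Nat.card π.ker) {X : H} (hX : X ^ p = 1) :
    ∃ N : Subgroup H, (∀ a ∈ N, ∀ g ∈ zpowers X, a⁻¹ * g * a ∈ zpowers X) ∧
      N.index * Nat.card (N.map π) = Nat.card S ∧ ∀ (y : S) (k : ℕ), y * π X = π X ^ k * y → y ∈ N.map π := by
  have hn : ∀ a : H, ∀ k : ℕ, a * X * a⁻¹ = X ^ k → a ∈ Subgroup.normalizer (zpowers X : Set H) := by
    intro a k ha
    have : Finite (zpowers X : Set H) := Set.toFinite _
    refine mem_normalizer_fintype (S := (zpowers X : Set H)) fun n hn => ?_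
    obtain ⟨j, rfl⟩ := Subgroup.mem_zpowers_iff.1 hn
    have : a * X ^ j * a⁻¹ = (a * X * a⁻¹) ^ j := (conj_zpow).symm
    rw [this, ha]
    exact Subgroup.zpow_mem _ (Subgroup.pow_mem _ (mem_zpowers X) k) j
  refine ⟨Subgroup.normalizer (zpowers X : Set H), ?_, ?_, ?_⟩
  · intro a ha g hg
    have h1 := (Subgroup.normalizer (zpowers X : Set H)).inv_mem ha
    have h2 := (Subgroup.mem_normalizer_iff.1 h1 g).1 hg
    rwa [inv_inv] at h2
  · have hle : π.ker ≤ Subgroup.normalizer (zpowers X : Set H) := by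
      intro κ hκ
      refine hn κ 1 ?_
      rw [← cen hc hκ X, mul_inv_cancel_right, pow_one]
    rw [← Subgroup.index_map_eq _ hs hle]
    exact Subgroup.index_mul_card _
  · intro y k hy
    obtain ⟨a, rfl⟩ := hs y
    refine ⟨a, hn a k ?_, rfl⟩
    obtain ⟨κ, hκ, e⟩ := exists_ker (π := π) (a := a * X) (b := X ^ k * a) (by
      rw [map_mul, map_mul, map_pow, hy])
    have e1 : a * X * a⁻¹ = κ * X ^ k := by rw [e]; group
    have h1 : κ ^ p = 1 := by
      have h2 : (a * X * a⁻¹) ^ p = 1 := by rw [conj_pow, hX]; group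
      rw [e1, (show Commute κ (X ^ k) from (cen hc hκ (X ^ k)).symm).mul_pow, ← pow_mul, mul_comm k p, pow_mul, hX,
        one_pow, mul_one] at h2
      exact h2
    rw [e1, pow_eq_one_of_coprime hp hK hκ h1, one_mul]

include hs in
/-- Sylow subgroups -/
theorem exists_sylow [Finite H] {p : ℕ} [Fact p.Prime] (hK : ¬ p ∣ Nat.card π.ker)
    (hS : (Nat.card S).factorization p = 1) {X : H} (hX : orderOf X = p) : ∃ P : Sylow p H, (P : Subgroup H) = zpowers X := by
  have : Finite S := Finite.of_surjective π hs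
  have h1 : Nat.card H = Nat.card π.ker * Nat.card S := by
    rw [← Subgroup.card_mul_index π.ker, Subgroup.index_ker, MonoidHom.range_eq_top_of_surjective π hs]
    congr 1
    exact Nat.card_congr Subgroup.topEquiv.toEquiv
  have h2 : (Nat.card H).factorization p = 1 := by
    rw [h1, Nat.factorization_mul Nat.card_pos.ne' Nat.card_pos.ne', Finsupp.add_apply,
      Nat.factorization_eq_zero_of_not_dvd hK, hS]
  refine ⟨Sylow.ofCard (zpowers X) ?_, Sylow.coe_ofCard _ _⟩
  rw [h2, Nat.card_zpowers, hX, pow_one]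

end

end Cfsg.Agent.H223.RIM
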