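import Cfsg.Agent.H223.RIM.UMat
import Cfsg.Agent.H223.RIM.Sys

/-!
# S4816 (RIM), row `U₆(2)`: the relations (helper223)
-/

set_option autoImplicit false

namespace Cfsg.Agent.H223.RIM

theorem Sys5.map {G G' : Type*} [Group G] [Group G'] (f : G →* G') {x e0 e1 e2 e3 e4 A0 A1 A2 A3 c t : G}
    (h : Sys5 x e0 e1 e2 e3 e4 A0 A1 A2 A3 c t) :
    Sys5 (f x) (f e0) (f e1) (f e2) (f e3) (f e4) (f A0) (f A1) (f A2) (f A3) (f c) (f t) where
  x5 := by rw [← map_pow, h.x5, map_one]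
  h0 := by rw [← map_mul, h.h0, map_mul]
  h1 := by rw [← map_mul, h.h1, map_mul]
  h2 := by rw [← map_mul, h.h2, map_mul]
  h3 := by rw [← map_mul, h.h3, map_mul]
  ee := by rw [← map_mul, h.ee, map_one]
  a0 := by rw [← map_mul, h.a0]
  a1 := by rw [← map_mul, h.a1]
  a2 := by rw [← map_mul, h.a2]
  a3 := by rw [← map_mul, h.a3]
  g1 := h.g1.map f
  g2 := h.g2.map f
  ac := by rw [← map_mul, h.ac, map_mul, map_mul]
  xt := by rw [← map_mul, h.xt, map_mul]
  ta := h.ta.map f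
  tc := h.tc.map f
  c1 := h.c1.map f
  c2 := h.c2.map f
  c3 := h.c3.map f

theorem Sys7.map {G G' : Type*} [Group G] [Group G'] (f : G →* G') {x e0 e1 e2 e3 A0 : G}
    (h : Sys7 x e0 e1 e2 e3 A0) : Sys7 (f x) (f e0) (f e1) (f e2) (f e3) (f A0) where
  x7 := by rw [← map_pow, h.x7, map_one]
  h0 := by rw [← map_mul, h.h0, map_mul]
  h1 := by rw [← map_mul, h.h1, map_mul]
  h2 := by rw [← map_mul, h.h2, map_mul]
  ee := by rw [← map_mul, h.ee, map_one]
  e3 := by rw [← map_mul, ← h.e3]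
  a0 := by rw [← map_mul, h.a0]
  g1 := h.g1.map f
  g2 := h.g2.map f

/-- the relations for `p = 11` -/
structure Sys11 {G : Type*} [Group G] (A0 c t g w y1 y2 : G) : Prop where
  p1 : y1 ^ 11 = 1
  p2 : y2 ^ 11 = 1
  g3 : g ^ 3 = 1
  tg : t * g = g * t
  gq : g * (y1 * y2) = c * g
  gc : g * c = (y1 * y2) * c * g
  qq : (y1 * y2) * (y1 * y2) = t
  hw : A0 * w = y1 * y2
  cw : Good c w

theorem Sys11.map {G G' : Type*} [Group G] [Group G'] (f : G →* G') {A0 c t g w y1 y2 : G}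
    (h : Sys11 A0 c t g w y1 y2) : Sys11 (f A0) (f c) (f t) (f g) (f w) (f y1) (f y2) where
  p1 := by rw [← map_pow, h.p1, map_one]
  p2 := by rw [← map_pow, h.p2, map_one]
  g3 := by rw [← map_pow, h.g3, map_one]
  tg := by rw [← map_mul, h.tg, map_mul]
  gq := by rw [← map_mul f y1, ← map_mul, h.gq, map_mul]
  gc := by rw [← map_mul, h.gc, map_mul, map_mul, map_mul]
  qq := by rw [← map_mul f y1, ← map_mul, h.qq]
  hw := by rw [← map_mul, h.hw, map_mul]
  cw := h.cw.map f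

namespace UMat

open Cfsg Matrix Cfsg.Agent.SporadicA.FieldFour F4 Cfsg.Agent.H852.USixElts

set_option maxRecDepth 100000

theorem sys5_SU : Sys5 x5 sE0 sE1 sE2 sE3 sE4 sA0 sA1 sA2 sA3 sC0 t2 where
  x5 := mat_inj (by rw [mat_pow]; exact X5_pow)
  h0 := mat_inj (by change X5 * mE0 = mE1 * X5; decide +kernel)
  h1 := mat_inj (by change X5 * mE1 = mE2 * X5; decide +kernel)
  h2 := mat_inj (by change X5 * mE2 = mE3 * X5; decide +kernel)
  h3 := mat_inj (by change X5 * mE3 = mE4 * X5; decide +kernel)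
  ee := mat_inj (by change mE0 * mE0 = 1; decide +kernel)
  a0 := mat_inj (by change mA0 * mE0 = mE1; decide +kernel)
  a1 := mat_inj (by change mA1 * mE1 = mE2; decide +kernel)
  a2 := mat_inj (by change mA2 * mE2 = mE3; decide +kernel)
  a3 := mat_inj (by change mA3 * mE3 = mE4; decide +kernel)
  g1 := ⟨0, sU_e01, sW_e01, mat_inj (by change mU_e01 * mE0 = mE0 * mU_e01; decide +kernel),
    mat_inj (by change mW_e01 * mE0 = mE0 * mW_e01; decide +kernel),
    mat_inj (by rw [pow_zero, one_mul]; change mE1 * mW_e01 * mU_e01 = mU_e01 * mW_e01; decide +kernel)⟩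
  g2 := ⟨0, sU_e02, sW_e02, mat_inj (by change mU_e02 * mE0 = mE0 * mU_e02; decide +kernel),
    mat_inj (by change mW_e02 * mE0 = mE0 * mW_e02; decide +kernel),
    mat_inj (by rw [pow_zero, one_mul]; change mE2 * mW_e02 * mU_e02 = mU_e02 * mW_e02; decide +kernel)⟩
  ac := mat_inj (by change mA0 * mC0 = T2 * mC0 * mA0; decide +kernel)
  xt := mat_inj (by change X5 * T2 = T2 * X5; decide +kernel)
  ta := ⟨0, sU_ta, sW_ta, mat_inj (by change mU_ta * T2 = T2 * mU_ta; decide +kernel),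
    mat_inj (by change mW_ta * T2 = T2 * mW_ta; decide +kernel),
    mat_inj (by rw [pow_zero, one_mul]; change mA0 * mW_ta * mU_ta = mU_ta * mW_ta; decide +kernel)⟩
  tc := ⟨0, sU_tc, sW_tc, mat_inj (by change mU_tc * T2 = T2 * mU_tc; decide +kernel),
    mat_inj (by change mW_tc * T2 = T2 * mW_tc; decide +kernel),
    mat_inj (by rw [pow_zero, one_mul]; change mC0 * mW_tc * mU_tc = mU_tc * mW_tc; decide +kernel)⟩
  c1 := ⟨1, sU_c1, sW_c1, mat_inj (by change mU_c1 * mC0 = mC0 * mU_c1; decide +kernel),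
    mat_inj (by change mW_c1 * mC0 = mC0 * mW_c1; decide +kernel),
    mat_inj (by rw [pow_one]; change mA1 * mW_c1 * mU_c1 = mC0 * mU_c1 * mW_c1; decide +kernel)⟩
  c2 := ⟨0, sU_c2, sW_c2, mat_inj (by change mU_c2 * mC0 = mC0 * mU_c2; decide +kernel),
    mat_inj (by change mW_c2 * mC0 = mC0 * mW_c2; decide +kernel),
    mat_inj (by rw [pow_zero, one_mul]; change mA2 * mW_c2 * mU_c2 = mU_c2 * mW_c2; decide +kernel)⟩
  c3 := ⟨1, sU_c3, sW_c3, mat_inj (by change mU_c3 * mC0 = mC0 * mU_c3; decide +kernel),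
    mat_inj (by change mW_c3 * mC0 = mC0 * mW_c3; decide +kernel),
    mat_inj (by rw [pow_one]; change mA3 * mW_c3 * mU_c3 = mC0 * mU_c3 * mW_c3; decide +kernel)⟩

theorem sys7_SU : Sys7 sY7 sB0 sB1 sB2 sB3 sA0 where
  x7 := mat_inj (by rw [mat_pow]; exact pwY7)
  h0 := mat_inj (by change mY7 * mB0 = mB1 * mY7; decide +kernel)
  h1 := mat_inj (by change mY7 * mB1 = mB2 * mY7; decide +kernel)
  h2 := mat_inj (by change mY7 * mB2 = mB3 * mY7; decide +kernel)
  ee := mat_inj (by change mB0 * mB0 = 1; decide +kernel)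
  e3 := mat_inj (by change mB3 = mB0 * mB2; decide +kernel)
  a0 := mat_inj (by change mA0 * mB0 = mB1; decide +kernel)
  g1 := ⟨0, sU_f1, sW_f1, mat_inj (by change mU_f1 * mB0 = mB0 * mU_f1; decide +kernel),
    mat_inj (by change mW_f1 * mB0 = mB0 * mW_f1; decide +kernel),
    mat_inj (by rw [pow_zero, one_mul]; change mB1 * mW_f1 * mU_f1 = mU_f1 * mW_f1; decide +kernel)⟩
  g2 := ⟨0, sU_f2, sW_f2, mat_inj (by change mU_f2 * mB0 = mB0 * mU_f2; decide +kernel),
    mat_inj (by change mW_f2 * mB0 = mB0 * mW_f2; decide +kernel),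
    mat_inj (by rw [pow_zero, one_mul]; change mB2 * mW_f2 * mU_f2 = mU_f2 * mW_f2; decide +kernel)⟩

theorem sys11_SU : Sys11 sA0 sC0 t2 (sG3a * sG3b) sW4 sY1 sY2 where
  p1 := mat_inj (by rw [mat_pow]; exact pwY1)
  p2 := mat_inj (by rw [mat_pow]; exact pwY2)
  g3 := mat_inj (by rw [mat_pow]; change (mG3a * mG3b) ^ 3 = 1; decide +kernel)
  tg := mat_inj (by change T2 * (mG3a * mG3b) = (mG3a * mG3b) * T2; decide +kernel)
  gq := mat_inj (by change (mG3a * mG3b) * (mY1 * mY2) = mC0 * (mG3a * mG3b); decide +kernel)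
  gc := mat_inj (by change (mG3a * mG3b) * mC0 = (mY1 * mY2) * mC0 * (mG3a * mG3b); decide +kernel)
  qq := mat_inj (by change (mY1 * mY2) * (mY1 * mY2) = T2; decide +kernel)
  hw := mat_inj (by change mA0 * mW4 = mY1 * mY2; decide +kernel)
  cw := ⟨1, sU_cw, sW_cw, mat_inj (by change mU_cw * mC0 = mC0 * mU_cw; decide +kernel),
    mat_inj (by change mW_cw * mC0 = mC0 * mW_cw; decide +kernel),
    mat_inj (by rw [pow_one]; change mW4 * mW_cw * mU_cw = mC0 * mU_cw * mW_cw; decide +kernel)⟩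

theorem f4_x5 : sF4X * x5 = x5 ^ 2 * sF4X :=
  mat_inj (by rw [pow_two]; change mF4X * X5 = (X5 * X5) * mF4X; decide +kernel)

theorem z3_x5 : z3 * x5 = x5 ^ 1 * z3 := mat_inj (by rw [pow_one]; change Z3 * X5 = X5 * Z3; decide +kernel)

theorem order_f4 : orderOf (pr sF4X) = 4 := by
  have : Fact (Nat.Prime 2) := ⟨by norm_num⟩
  refine orderOf_eq_prime_pow (p := 2) (n := 1) ?_ ?_
  · intro h
    rw [pow_one, ← map_pow] at h
    obtain ⟨c, -, hc⟩ := pr_eq_one h
    rw [mat_pow] at hc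
    have h1 : (mF4X ^ 2) 0 1 ≠ 0 := by decide +kernel
    apply h1
    change (mat sF4X ^ 2) 0 1 = 0
    rw [hc, Matrix.smul_apply, Matrix.one_apply_ne (by decide), smul_zero]
  · rw [← map_pow]
    have h1 : sF4X ^ 2 ^ (1 + 1) = 1 := mat_inj (by
      rw [mat_pow]
      exact pwF4X)
    rw [h1, map_one]

theorem order_Y7 : orderOf (pr sY7) = 7 := by
  refine orderOf_pr (by norm_num) (mat_inj ?_) (pr_ne_one 0 1 (by decide) (by decide))
  rw [mat_pow]
  exact pwY7

theorem order_Y1 : orderOf (pr sY1) = 11 := by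
  refine orderOf_pr (by norm_num) (mat_inj ?_) (pr_ne_one 0 1 (by decide) (by decide))
  rw [mat_pow]
  exact pwY1

theorem order_Y2 : orderOf (pr sY2) = 11 := by
  refine orderOf_pr (by norm_num) (mat_inj ?_) (pr_ne_one 0 2 (by decide) (by decide))
  rw [mat_pow]
  exact pwY2

end UMat

end Cfsg.Agent.H223.RIM
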