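import Cfsg.Agent.H223.RIM.Bnd
import Cfsg.Agent.H223.RIM.Cnt
import Cfsg.Agent.H223.RIM.URel
import Cfsg.Agent.H223.RIM.OddSq
import Cfsg.Agent.H257.RIM.EKOf
import Cfsg.Agent.H251.Small.U6

/-!
# S4816 (RIM), row `U₆(2)`: the module side for `p = 5, 7, 11` (helper223)
-/

set_option autoImplicit false
set_option linter.unusedSectionVars false

namespace Cfsg.Agent.H223.RIM

open Cfsg Cfsg.Agent.H665.RIM Cfsg.Agent.H229.RIM Cfsg.Agent.H257.RIM Cfsg.Agent.H524.RIM Cfsg.Agent.H852.USixElts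
open Cfsg.Agent.SporadicA.FieldFour Cfsg.Agent.H223.RIM.UMat
open scoped commutatorElement

universe u

theorem card_S6 : Nat.card (PSU 6 F4 2) = 9196830720 := Cfsg.Agent.H251.Small.card_u6 Cfsg.Agent.H852.USixElts.hF

theorem fac_one {p n : ℕ} (hp : p.Prime) (h1 : p ∣ n) (h2 : ¬ p ^ 2 ∣ n) : n.factorization p = 1 := by
  have hn : n ≠ 0 := by
    rintro rfl
    exact h2 (dvd_zero _)
  have h3 : 1 ≤ n.factorization p := (hp.pow_dvd_iff_le_factorization hn).1 (by rwa [pow_one])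
  have h4 : ¬ 2 ≤ n.factorization p := fun h => h2 ((hp.pow_dvd_iff_le_factorization hn).2 h)
  omega

/-- the situation -/
structure Sit (p : ℕ) {H V : Type u} [Group H] [Finite H] [AddCommGroup V] [Finite V] [DistribMulAction H V]
    (π : H →* PSU 6 F4 2) : Prop where
  p2 : p ≠ 2
  perf : commutator H = ⊤
  surj : Function.Surjective π
  cen : π.ker ≤ Subgroup.center H
  pK : ¬ p ∣ Nat.card π.ker
  exp : ∀ v : V, p • v = 0
  nt : ∀ τ : H, π τ ≠ 1 → ∃ v : V, τ • v ≠ v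
  orb : ∀ v : V, ¬ p ∣ (MulAction.stabilizer H v).index

theorem ek_of_sit {p : ℕ} (h : ∀ (H V : Type u) [Group H] [Finite H] [AddCommGroup V] [Finite V]
    [DistribMulAction H V] (π : H →* PSU 6 F4 2), ¬ Sit (V := V) p π) (S : Type u) [Group S]
    (e : S ≃* PSU 6 F4 2) : EK p S := by
  intro H V _ _ _ _ _ K N φ π hC hπ hK hN
  have hker : (e.toMonoidHom.comp π).ker = K := by
    rw [← hK]
    ext x
    change e (π x) = 1 ↔ π x = 1
    exact map_eq_one_iff e e.injective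
  refine h H V (e.toMonoidHom.comp π)
    { p2 := hC.odd
      perf := hC.perf
      surj := e.surjective.comp hπ
      cen := by
        rw [hker]
        exact fun k hk => central_of_comm hC.perf k fun g => hC.cen (hN k hk g)
      pK := by rw [hker]; exact hC.pK
      exp := hC.exp
      nt := fun τ hτ => ?_
      orb := hC.P1 }
  by_contra hcon
  push Not at hcon
  apply hτ
  rw [← MonoidHom.mem_ker, hker]
  exact hC.NK ((hC.ker τ).1 hcon)

section

variable {p : ℕ} [Fact p.Prime] {H V : Type u} [Group H] [Finite H] [AddCommGroup V] [Finite V] [DistribMulAction H V]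
  {π : H →* PSU 6 F4 2}

theorem Sit.lift (h : Sit (V := V) p π) {x : PSU 6 F4 2} (hx : orderOf x = p) :
    ∃ X : H, π X = x ∧ X ^ p = 1 ∧ orderOf X = p := by
  obtain ⟨h0, rfl⟩ := h.surj x
  obtain ⟨X, h1, h2⟩ := exists_lift h.cen Fact.out h.pK (h0 := h0) (by rw [← hx, pow_orderOf_eq_one])
  refine ⟨X, h1, h2, orderOf_eq_prime h2 ?_⟩
  rintro rfl
  rw [map_one] at h1
  rw [← h1, orderOf_one] at hx
  exact (Fact.out : p.Prime).one_lt.ne hx

/-- the count: `|V| ≤ (|S| / m) |C_V(P)|` -/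
theorem Sit.count (h : Sit (V := V) p π) (hS : (9196830720 : ℕ).factorization p = 1) {X : H} (hX : X ^ p = 1)
    (hoX : orderOf X = p) {m b : ℕ} (hm : ∀ T : Subgroup (PSU 6 F4 2),
      (∀ (y : PSU 6 F4 2) (k : ℕ), y * π X = π X ^ k * y → y ∈ T) → m ∣ Nat.card T)
    (hb : Nat.card (Fx V (Subgroup.zpowers X)) * b ≤ Nat.card V) : b * m ≤ 9196830720 := by
  obtain ⟨N, hN1, hN2, hN3⟩ := norm_le h.surj h.cen Fact.out h.pK hX
  obtain ⟨P, hP⟩ := exists_sylow h.surj h.pK (by rw [card_S6]; exact hS) hoX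
  have h1 := card_V_le (V := V) P N (fun x hx g hg => by
    have hg' : g ∈ Subgroup.zpowers X := by rw [← hP]; exact hg
    have := hN1 x hx g hg'
    rw [← hP] at this
    exact this) h.orb
  rw [hP] at h1
  have hpos : 0 < Nat.card (Fx V (Subgroup.zpowers X)) := by
    have : Nonempty (Fx V (Subgroup.zpowers X)) := ⟨⟨0, fun g _ => smul_zero g⟩⟩
    exact Nat.card_pos
  have h2 : b ≤ N.index := by
    refine Nat.le_of_mul_le_mul_left (hb.trans (h1.trans (le_of_eq (mul_comm _ _)))) hpos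
  have h3 : m ≤ Nat.card (N.map π) := Nat.le_of_dvd Nat.card_pos (hm _ hN3)
  rw [card_S6] at hN2
  rw [← hN2]
  exact Nat.mul_le_mul h2 h3

end

theorem pr_t2 : pr t2 ≠ 1 := pr_ne_one 4 5 (by decide) (by decide)

/-- the 5-system in `H` -/
theorem Sit.five {p : ℕ} {H V : Type u} [Group H] [Finite H] [AddCommGroup V] [Finite V] [DistribMulAction H V]
    {π : H →* PSU 6 F4 2} (h : Sit (V := V) p π) {X C : H} (hX : π X = pr x5) (hC : π C = pr sC0) :
    ∃ s : Fin 5 → H, (∀ i, s i * s i = 1) ∧ (∀ i j, s i * s j = s j * s i) ∧ π (s 0) = pr sA0 ∧ π (s 4) = pr t2 ∧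
      (∀ k, X * s k = el s (mx k) * X) ∧ (∀ k, C * s k = el s (mc k) * C) ∧ s 0 * C = s 4 * C * s 0 := by
  obtain ⟨s, h1, h2, h3, h4, x0, x1, x2, x3, x4, c0, c1, c2, c3, c4, hs⟩ :=
    sys5 h.surj h.cen (sys5_SU.map pr) hX hC
  exact ⟨s, h1, h2, h3, h4, hg_x x0 x1 x2 x3 x4, hg_c c0 c1 c2 c3 c4, hs⟩

theorem no_five (H V : Type u) [Group H] [Finite H] [AddCommGroup V] [Finite V] [DistribMulAction H V]
    (π : H →* PSU 6 F4 2) : ¬ Sit (V := V) 5 π := by
  intro h
  have : Fact (Nat.Prime 5) := ⟨by norm_num⟩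
  obtain ⟨X, hX, hX5, hoX⟩ := h.lift order_x5
  obtain ⟨C, hC⟩ := h.surj (pr sC0)
  obtain ⟨s, h1, h2, -, h4, hx, hc, -⟩ := h.five hX hC
  obtain ⟨v, hv⟩ := h.nt (s 4) (by rw [h4]; exact pr_t2)
  have hb := bound_five (V := V) h.exp h.p2 h1 h2 hx hc hv (Subgroup.zpowers X) (Subgroup.mem_zpowers X)
  have h5 := h.count (fac_one (by norm_num) (by norm_num) (by norm_num)) hX5 hoX (m := 60) (by
    intro T hT
    rw [hX] at hT
    have a1 : 5 ∣ Nat.card T := by
      rw [← order_x5]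
      exact Subgroup.orderOf_dvd_natCard T (hT _ 1 (by rw [pow_one]))
    have a2 : 4 ∣ Nat.card T := by
      rw [← order_f4]
      exact Subgroup.orderOf_dvd_natCard T (hT _ 2 (by rw [← map_mul, f4_x5, map_mul, map_pow]))
    have a3 : 3 ∣ Nat.card T := by
      rw [← order_z3]
      exact Subgroup.orderOf_dvd_natCard T (hT _ 1 (by rw [← map_mul, z3_x5, map_mul, map_pow]))
    omega) hb
  norm_num at h5

theorem no_seven (H V : Type u) [Group H] [Finite H] [AddCommGroup V] [Finite V] [DistribMulAction H V]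
    (π : H →* PSU 6 F4 2) : ¬ Sit (V := V) 7 π := by
  intro h
  have : Fact (Nat.Prime 7) := ⟨by norm_num⟩
  obtain ⟨Y, hY⟩ := h.surj (pr x5)
  obtain ⟨C, hC⟩ := h.surj (pr sC0)
  obtain ⟨s, h1, h2, h3, h4, hx, hc, hs⟩ := h.five hY hC
  obtain ⟨v, hv⟩ := h.nt (s 4) (by rw [h4]; exact pr_t2)
  have ht := bound_tau (V := V) h.exp h.p2 h1 h2 hx hc hv
  obtain ⟨X, hX, hX7, hoX⟩ := h.lift order_Y7
  obtain ⟨r, r1, r2, r3, x0, x1, x2⟩ := sys7 h.surj h.cen (sys7_SU.map pr) hX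
  obtain ⟨κ, hκ, e⟩ := exists_ker (π := π) (a := r 0) (b := s 0) (by rw [r3, h3])
  -- the commutator with `C`
  have e1 : C * r 0 * C⁻¹ = r 0 * s 4 := by
    have k1 := Cfsg.Agent.H223.RIM.cen h.cen hκ
    have e2 : C * s 0 = s 4 * s 0 * C := by
      have e3 : s 4 * (C * s 0) = s 0 * C := by rw [hs, mul_assoc]
      calc C * s 0 = s 4 * s 4 * (C * s 0) := by rw [h1, one_mul]
        _ = s 4 * (s 4 * (C * s 0)) := by rw [mul_assoc]
        _ = s 4 * s 0 * C := by rw [e3, mul_assoc]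
    calc C * r 0 * C⁻¹ = (C * κ) * s 0 * C⁻¹ := by rw [e]; group
      _ = κ * (C * s 0) * C⁻¹ := by rw [k1 C]; group
      _ = κ * (s 4 * s 0) := by rw [e2]; group
      _ = κ * (s 0 * s 4) := by rw [h2 4 0]
      _ = r 0 * s 4 := by rw [e]; group
  have e4 : s 4 = r 0 * (C * r 0 * C⁻¹) := by
    rw [e1, ← mul_assoc, r1, one_mul]
  have h5 : 7 ^ 16 ≤ ix V (r 0) * ix V (r 0) := by
    refine ht.trans ?_
    rw [e4]
    refine (ix_mul_le _ _).trans (le_of_eq ?_)
    rw [ix_conj]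
  let q : Fin 5 → H := ![r 0, r 1, r 2, 1, 1]
  have q1 : ∀ i, q i * q i = 1 := by
    intro i
    fin_cases i
    exacts [r1 0, r1 1, r1 2, one_mul 1, one_mul 1]
  have q2 : ∀ i j, q i * q j = q j * q i := by
    have o1 : ∀ a : H, a * 1 = 1 * a := fun a => by rw [mul_one, one_mul]
    have o2 : ∀ a : H, 1 * a = a * 1 := fun a => by rw [mul_one, one_mul]
    intro i j
    fin_cases i <;> fin_cases j
    exacts [r2 0 0, r2 0 1, r2 0 2, o1 _, o1 _, r2 1 0, r2 1 1, r2 1 2, o1 _, o1 _, r2 2 0, r2 2 1, r2 2 2, o1 _, o1 _,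
      o2 _, o2 _, o2 _, rfl, rfl, o2 _, o2 _, o2 _, rfl, rfl]
  have hb := bound_seven (V := V) (s := q) h.exp h.p2 q1 q2 (X := X) (hg_7 x0 x1 x2
    (by change X * 1 = 1 * X; rw [mul_one, one_mul]) (by change X * 1 = 1 * X; rw [mul_one, one_mul])) rfl rfl h5
    (Subgroup.zpowers X) (Subgroup.mem_zpowers X)
  have h6 := h.count (fac_one (by norm_num) (by norm_num) (by norm_num)) hX7 hoX (m := 7) (by
    intro T hT
    rw [hX] at hT
    rw [← order_Y7]
    exact Subgroup.orderOf_dvd_natCard T (hT _ 1 (by rw [pow_one]))) hb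
  norm_num at h6

theorem no_eleven (H V : Type u) [Group H] [Finite H] [AddCommGroup V] [Finite V] [DistribMulAction H V]
    (π : H →* PSU 6 F4 2) : ¬ Sit (V := V) 11 π := by
  intro h
  have : Fact (Nat.Prime 11) := ⟨by norm_num⟩
  have S11 := sys11_SU.map pr
  -- the Sylow subgroups
  obtain ⟨Z, hZ, hZ11, hoZ⟩ := h.lift order_y11
  obtain ⟨Y1, hY1, -, hoY1⟩ := h.lift order_Y1
  obtain ⟨Y2, hY2, -, hoY2⟩ := h.lift order_Y2
  have hfac : (9196830720 : ℕ).factorization 11 = 1 := fac_one (by norm_num) (by norm_num) (by norm_num)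
  have hixZ : ix V Z ≤ 11 ^ 7 := by
    have h1 : Nat.card (Fx V (Subgroup.zpowers Z)) * ix V Z ≤ Nat.card V := le_of_eq (card_mul_index V _)
    have h2 := h.count hfac hZ11 hoZ (m := 55) (by
      intro T hT
      rw [hZ] at hT
      have a1 : 11 ∣ Nat.card T := by
        rw [← order_y11]
        exact Subgroup.orderOf_dvd_natCard T (hT _ 1 (by rw [pow_one]))
      have a2 : 5 ∣ Nat.card T := by
        rw [← order_f5]
        refine Subgroup.orderOf_dvd_natCard T (hT _ 4 ?_)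
        rw [← map_mul, ← map_pow, ← map_mul]
        congr 1
        apply mat_inj
        rw [mat_mul, mat_mul, mat_pow]
        have h2 : mat y11 ^ 4 = Z11 * Z11 * (Z11 * Z11) := by
          rw [show (4 : ℕ) = 2 * 2 by norm_num, pow_mul, pow_two, pow_two]
          rfl
        rw [h2]
        exact F5_Z11
      omega) h1
    have hP : IsPGroup 11 (Multiplicative V) := by
      intro v
      refine ⟨1, ?_⟩
      rw [pow_one]
      exact h.exp (Multiplicative.toAdd v)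
    obtain ⟨n, hn⟩ := IsPGroup.iff_card.1 hP
    have hd : ix V Z ∣ 11 ^ n := by
      have hn' : Nat.card V = 11 ^ n := hn
      rw [← hn', ← card_mul_ix (V := V) Z]
      exact dvd_mul_left _ _
    obtain ⟨m, -, hm⟩ := (Nat.dvd_prime_pow (by norm_num)).1 hd
    rw [hm] at h2 ⊢
    refine Nat.pow_le_pow_right (by norm_num) ?_
    by_contra hcon
    push Not at hcon
    have h3 : 11 ^ 8 ≤ 11 ^ m := Nat.pow_le_pow_right (by norm_num) hcon
    have h4 : (11 : ℕ) ^ 8 = 214358881 := by norm_num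
    rw [h4] at h3
    omega
  have hixY : ∀ Y : H, orderOf Y = 11 → ix V Y ≤ 11 ^ 7 := by
    intro Y hY
    obtain ⟨P, hP⟩ := exists_sylow h.surj h.pK (by rw [card_S6]; exact hfac) hY
    obtain ⟨Q, hQ⟩ := exists_sylow h.surj h.pK (by rw [card_S6]; exact hfac) hoZ
    obtain ⟨g, hg⟩ := MulAction.exists_smul_eq H Q P
    have h1 : (P : Subgroup H) = (Q : Subgroup H).map (MulAut.conj g).toMonoidHom := by rw [← hg]; rfl
    have h2 := index_fx_conj (V := V) (Q : Subgroup H) g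
    rw [← h1, hP, hQ] at h2
    refine le_trans (le_of_eq ?_) hixZ
    exact h2
  -- the elements
  obtain ⟨X, hX⟩ := h.surj (pr x5)
  obtain ⟨g, hg⟩ := h.surj (pr (sG3a * sG3b))
  obtain ⟨y, hy⟩ : ∃ y, y = Y1 * Y2 := ⟨_, rfl⟩
  have py : π y = pr sY1 * pr sY2 := by rw [hy, map_mul, hY1, hY2]
  obtain ⟨C, dC⟩ : ∃ C, C = g * y * g⁻¹ := ⟨_, rfl⟩
  have hC : π C = pr sC0 := by
    rw [dC, map_mul, map_mul, map_inv, py, hg, S11.gq, mul_inv_cancel_right]
  obtain ⟨s, h1, h2, h3, h4, hx, hc, hs⟩ := h.five hX hC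
  obtain ⟨v, hv⟩ := h.nt (s 4) (by rw [h4]; exact pr_t2)
  have ht := bound_tau (V := V) h.exp h.p2 h1 h2 hx hc hv
  obtain ⟨τ, dτ⟩ : ∃ τ, τ = s 4 := ⟨_, rfl⟩
  rw [← dτ] at h4 hv ht hs
  have ττ : τ * τ = 1 := by rw [dτ]; exact h1 4
  -- `τ` commutes with `g`, `C`, `y`
  have tg : τ * g = g * τ := comm_of_odd h.cen ττ (n := 3) (by rw [hg]; exact S11.g3) (by decide) (by
    rw [h4, hg]; exact S11.tg)
  have tC : C * τ = τ * C := by
    have h5 := hc 4
    have e16 : el s (mc 4) = s 4 := (el_gen s).2.2.2.2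
    rw [e16, ← dτ] at h5
    exact h5
  have tcg : Commute τ g := tg
  have tcC : Commute τ C := tC.symm
  have ey : y = g⁻¹ * C * g := by rw [dC]; group
  have tcy : Commute τ y := by
    rw [ey]
    exact (tcg.inv_right.mul_right tcC).mul_right tcg
  -- `y = s 0 w`
  obtain ⟨w, dw⟩ : ∃ w, w = (s 0)⁻¹ * y := ⟨_, rfl⟩
  have pw : π w = pr sW4 := by
    rw [dw, map_mul, map_inv, h3, py, ← S11.hw, inv_mul_cancel_left]
  have cw : C * w = w * C := comm_of_good h.surj h.cen (by rw [hC, pw]; exact S11.cw)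
  have yw : y = s 0 * w := by rw [dw, mul_inv_cancel_left]
  have yC : y * C = τ * C * y := by
    calc y * C = s 0 * (w * C) := by rw [yw, mul_assoc]
      _ = s 0 * (C * w) := by rw [cw]
      _ = (s 0 * C) * w := by rw [mul_assoc]
      _ = τ * C * s 0 * w := by rw [hs]
      _ = τ * C * y := by rw [mul_assoc, ← yw]
  -- squares
  obtain ⟨κ, hκ, e⟩ := exists_ker (π := π) (a := g * C * g⁻¹) (b := y * C) (by
    rw [map_mul, map_mul, map_inv, map_mul, hg, hC, py, S11.gc, mul_inv_cancel_right])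
  obtain ⟨μ, hμ, f⟩ := exists_ker (π := π) (a := y * y) (b := τ) (by rw [map_mul, py, h4, S11.qq])
  have kκ := Cfsg.Agent.H223.RIM.cen h.cen hκ
  have kμ := Cfsg.Agent.H223.RIM.cen h.cen hμ
  have CC : C * C = μ * τ := by
    calc C * C = g * (y * y) * g⁻¹ := by rw [dC]; group
      _ = g * μ * (τ * g⁻¹) := by rw [f]; group
      _ = μ * g * (g⁻¹ * τ) := by rw [kμ g, (tcg.inv_right).eq]
      _ = μ * τ := by group
  have GG : (g * C * g⁻¹) * (g * C * g⁻¹) = μ * τ := by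
    calc (g * C * g⁻¹) * (g * C * g⁻¹) = g * (C * C) * g⁻¹ := by group
      _ = g * μ * (τ * g⁻¹) := by rw [CC]; group
      _ = μ * g * (g⁻¹ * τ) := by rw [kμ g, (tcg.inv_right).eq]
      _ = μ * τ := by group
  have Cy : C * y = τ * (y * C) := by
    rw [yC, mul_assoc, ← mul_assoc τ τ, ττ, one_mul]
  have yCyC : (y * C) * (y * C) = τ * (μ * μ) := by
    calc (y * C) * (y * C) = y * (C * y) * C := by group
      _ = y * (τ * (y * C)) * C := by rw [Cy]
      _ = (y * τ) * y * (C * C) := by group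
      _ = (τ * y) * y * (C * C) := by rw [tcy.eq]
      _ = τ * (y * y) * (C * C) := by group
      _ = τ * (μ * τ) * (μ * τ) := by rw [f, CC]
      _ = τ * μ * (τ * μ) * τ := by group
      _ = τ * μ * (μ * τ) * τ := by rw [kμ τ]
      _ = τ * (μ * μ) * (τ * τ) := by group
      _ = τ * (μ * μ) := by rw [ττ, mul_one]
  have hμκ : μ * (κ * κ) = 1 := by
    have e1 : (κ * (y * C)) * (κ * (y * C)) = μ * τ := by rw [← e]; exact GG
    have e2 : (κ * (y * C)) * (κ * (y * C)) = (κ * κ) * (τ * (μ * μ)) := by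
      calc (κ * (y * C)) * (κ * (y * C)) = κ * ((y * C) * κ) * (y * C) := by group
        _ = κ * (κ * (y * C)) * (y * C) := by rw [kκ (y * C)]
        _ = (κ * κ) * ((y * C) * (y * C)) := by group
        _ = _ := by rw [yCyC]
    rw [e2] at e1
    have e3 : (κ * κ) * (τ * (μ * μ)) = (μ * (κ * κ)) * (μ * τ) := by
      calc (κ * κ) * (τ * (μ * μ)) = (κ * κ) * ((τ * μ) * μ) := by group
        _ = (κ * κ) * ((μ * τ) * μ) := by rw [kμ τ]
        _ = ((κ * κ) * μ) * (τ * μ) := by group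
        _ = (μ * (κ * κ)) * (μ * τ) := by rw [kμ (κ * κ), kμ τ]
    rw [e3] at e1
    exact mul_eq_right.1 e1
  obtain ⟨n, hn, hκn⟩ := odd_sq Cfsg.Agent.H852.USixElts.hF h.perf h.surj h.cen hκ
  have hμn : μ ^ n = 1 := by
    have e1 : μ = (κ * κ)⁻¹ := eq_inv_of_mul_eq_one_left hμκ
    rw [e1, inv_pow, hκn, inv_one]
  have hyn : y ^ (2 * n) = τ := by
    have e1 : Commute μ τ := (kμ τ).symm
    obtain ⟨j, hj⟩ := hn
    have e2 : τ ^ n = τ := by
      rw [hj, pow_succ, pow_mul, pow_two, ττ, one_pow, one_mul]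
    rw [pow_mul, pow_two, f, e1.mul_pow, hμn, one_mul, e2]
  have hle : ix V τ ≤ ix V y := by
    refine ix_mono fun v hv => ?_
    rw [← hyn]
    have : ∀ k : ℕ, y ^ k • v = v := by
      intro k
      induction k with
      | zero => rw [pow_zero, one_smul]
      | succ k ih => rw [pow_succ, mul_smul, hv, ih]
    exact this _
  have hfin : 11 ^ 16 ≤ 11 ^ 7 * 11 ^ 7 :=
    (ht.trans hle).trans ((hy ▸ ix_mul_le Y1 Y2 : ix V y ≤ _).trans (Nat.mul_le_mul (hixY Y1 hoY1) (hixY Y2 hoY2)))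
  norm_num at hfin

end Cfsg.Agent.H223.RIM
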