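import Mathlib

/-!
# S4816 (RIM), row `U₆(2)`: commuting lifts in perfect central extensions (helper223)

`Good a b` : a certificate that `a`, `b` commute in every central extension; `sys5`, `sys7` : lifts of an elementary abelian
2-group normalised by an element of order 5 or 7.
-/

set_option autoImplicit false
set_option linter.unusedSectionVars false

namespace Cfsg.Agent.H223.RIM

/-- `a` commutes with `u`, `v`, and `b = a ^ k [u, v]` -/
def Good {G : Type*} [Group G] (a b : G) : Prop :=
  ∃ (k : ℕ) (u v : G), u * a = a * u ∧ v * a = a * v ∧ b * v * u = a ^ k * u * v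

theorem Good.map {G G' : Type*} [Group G] [Group G'] {a b : G} (h : Good a b) (f : G →* G') : Good (f a) (f b) := by
  obtain ⟨k, u, v, h1, h2, h3⟩ := h
  refine ⟨k, f u, f v, ?_, ?_, ?_⟩
  · rw [← map_mul, h1, map_mul]
  · rw [← map_mul, h2, map_mul]
  · rw [← map_pow, ← map_mul, ← map_mul, h3, map_mul, map_mul]

section lift

variable {H S : Type*} [Group H] [Group S] {π : H →* S}

theorem exists_ker {a b : H} (h : π a = π b) : ∃ κ ∈ π.ker, a = κ * b :=
  ⟨a * b⁻¹, by rw [MonoidHom.mem_ker, map_mul, map_inv, h, mul_inv_cancel], by group⟩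

variable (hs : Function.Surjective π) (hc : π.ker ≤ Subgroup.center H)

include hc in
theorem cen {κ : H} (h : κ ∈ π.ker) (g : H) : g * κ = κ * g := Subgroup.mem_center_iff.1 (hc h) g

include hs hc in
theorem comm_of_good {a b : H} (h : Good (π a) (π b)) : a * b = b * a := by
  obtain ⟨k, u, v, h1, h2, h3⟩ := h
  obtain ⟨u, rfl⟩ := hs u
  obtain ⟨v, rfl⟩ := hs v
  obtain ⟨κ, hκ, e1⟩ := exists_ker (π := π) (a := u * a) (b := a * u) (by rw [map_mul, map_mul, h1])
  obtain ⟨μ, hμ, e2⟩ := exists_ker (π := π) (a := v * a) (b := a * v) (by rw [map_mul, map_mul, h2])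
  obtain ⟨ν, hν, e3⟩ := exists_ker (π := π) (a := b * v * u) (b := a ^ k * u * v) (by
    rw [map_mul, map_mul, map_mul, map_mul, map_pow, h3])
  have k1 := cen hc hκ
  have k2 := cen hc hμ
  have k3 := cen hc hν
  have A1 : κ * (μ * (b * a * v * u)) = (b * v * u) * a := by
    calc κ * (μ * (b * a * v * u)) = κ * ((μ * b) * (a * v) * u) := by group
      _ = κ * ((b * μ) * (a * v) * u) := by rw [k2 b]
      _ = κ * (b * (μ * (a * v)) * u) := by group
      _ = κ * (b * (v * a) * u) := by rw [e2]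
      _ = (κ * (b * v)) * (a * u) := by group
      _ = ((b * v) * κ) * (a * u) := by rw [k1 (b * v)]
      _ = b * v * (κ * (a * u)) := by group
      _ = b * v * (u * a) := by rw [e1]
      _ = (b * v * u) * a := by group
  have A2 : (b * v * u) * a = κ * (μ * (a * (b * v * u))) := by
    calc (b * v * u) * a = ν * (a ^ k * u * v) * a := by rw [e3]
      _ = ν * a ^ k * u * (v * a) := by group
      _ = ν * a ^ k * u * (μ * (a * v)) := by rw [e2]
      _ = (ν * a ^ k * u * μ) * (a * v) := by group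
      _ = (μ * (ν * a ^ k * u)) * (a * v) := by rw [k2 (ν * a ^ k * u)]
      _ = μ * (ν * a ^ k) * (u * a) * v := by group
      _ = μ * (ν * a ^ k) * (κ * (a * u)) * v := by rw [e1]
      _ = (μ * (ν * a ^ k) * κ) * (a * u) * v := by group
      _ = (κ * (μ * (ν * a ^ k))) * (a * u) * v := by rw [k1 (μ * (ν * a ^ k))]
      _ = κ * (μ * ((ν * a) * (a ^ k * u * v))) := by group
      _ = κ * (μ * ((a * ν) * (a ^ k * u * v))) := by rw [k3 a]
      _ = κ * (μ * (a * (ν * (a ^ k * u * v)))) := by group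
      _ = κ * (μ * (a * (b * v * u))) := by rw [e3]
  have A3 := mul_left_cancel (mul_left_cancel (A1.trans A2))
  have A4 : (b * a) * (v * u) = (a * b) * (v * u) := by
    calc (b * a) * (v * u) = b * a * v * u := by group
      _ = a * (b * v * u) := A3
      _ = (a * b) * (v * u) := by group
  exact (mul_right_cancel A4).symm

include hc in
/-- an involution of `H` and an element of odd order of `S` -/
theorem comm_of_odd {τ g : H} (hτ : τ * τ = 1) {n : ℕ} (hn : π g ^ n = 1) (hodd : Odd n)
    (h : π τ * π g = π g * π τ) : τ * g = g * τ := by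
  obtain ⟨κ, hκ, e⟩ := exists_ker (π := π) (a := g * τ) (b := τ * g) (by rw [map_mul, map_mul, h])
  have k1 := cen hc hκ
  have hg : g ^ n ∈ π.ker := by rw [MonoidHom.mem_ker, map_pow, hn]
  -- g τ g⁻¹ = κ τ
  have e0 : g * τ * g⁻¹ = κ * τ := by rw [e, mul_assoc, mul_inv_cancel_right]
  have h2 : κ ^ 2 = 1 := by
    have : (g * τ * g⁻¹) * (g * τ * g⁻¹) = 1 := by
      calc (g * τ * g⁻¹) * (g * τ * g⁻¹) = g * (τ * τ) * g⁻¹ := by group
        _ = 1 := by rw [hτ]; group
    rw [e0] at this
    calc κ ^ 2 = κ * (κ * (τ * τ)) := by rw [hτ, mul_one, pow_two]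
      _ = κ * ((κ * τ) * τ) := by group
      _ = κ * ((τ * κ) * τ) := by rw [k1 τ]
      _ = (κ * τ) * (κ * τ) := by group
      _ = 1 := this
  have hpow : ∀ m : ℕ, g ^ m * τ * (g ^ m)⁻¹ = κ ^ m * τ := by
    intro m
    induction m with
    | zero => group
    | succ m ih =>
      calc g ^ (m + 1) * τ * (g ^ (m + 1))⁻¹ = g * (g ^ m * τ * (g ^ m)⁻¹) * g⁻¹ := by
            rw [pow_succ']; group
        _ = g * (κ ^ m * τ) * g⁻¹ := by rw [ih]
        _ = (g * κ ^ m) * τ * g⁻¹ := by group
        _ = (κ ^ m * g) * τ * g⁻¹ := by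
            have : g * κ ^ m = κ ^ m * g := cen hc (π.ker.pow_mem hκ m) g
            rw [this]
        _ = κ ^ m * (g * τ * g⁻¹) := by group
        _ = κ ^ m * (κ * τ) := by rw [e0]
        _ = κ ^ (m + 1) * τ := by rw [pow_succ]; group
  have h3 : κ ^ n = 1 := by
    have h4 := hpow n
    have h5 := cen hc hg τ
    have h6 : g ^ n * τ * (g ^ n)⁻¹ = τ := by rw [← h5, mul_inv_cancel_right]
    rw [h6] at h4
    exact mul_eq_right.1 h4.symm
  have h4 : κ = 1 := by
    obtain ⟨j, rfl⟩ := hodd
    rw [pow_succ, pow_mul, h2, one_pow, one_mul] at h3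
    exact h3
  rw [e, h4, one_mul]

end lift

end Cfsg.Agent.H223.RIM
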