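import Cfsg.Agent.H223.RIM.EKU62
import Cfsg.Agent.H325.RIM.EKCongr
import Cfsg.Agent.H325.RIM.Surv

/-!
# S4816 (RIM): the rows `U₆(2)`, `p = 5, 7, 11` (helper223)
-/

set_option autoImplicit false

namespace Cfsg.Agent.H223.RIM

open Cfsg Cfsg.Agent.H665.RIM Cfsg.Agent.H325.RIM Cfsg.Agent.SporadicA.FieldFour

universe u

theorem ek_S6 {p : ℕ} (hp : p = 5 ∨ p = 7 ∨ p = 11) : EK.{0} p (PSU 6 F4 2) := by
  rcases hp with rfl | rfl | rfl
  · exact ek_of_sit (fun H V => no_five H V) _ (MulEquiv.refl _)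
  · exact ek_of_sit (fun H V => no_seven H V) _ (MulEquiv.refl _)
  · exact ek_of_sit (fun H V => no_eleven H V) _ (MulEquiv.refl _)

/-- the module side, `S ≅ PSU₆(2)` -/
theorem ek_u62 {p : ℕ} (hp : p = 5 ∨ p = 7 ∨ p = 11) {F : Type} [Field F] [Fintype F] (hF : Fintype.card F = 4)
    {S : Type u} [Group S] (e : S ≃* PSU 6 F 2) : EK.{u} p S := by
  obtain ⟨f⟩ := Cfsg.Agent.SporadicStructure.PsuMatch.psu_iso_of_card
    (F := F4) (K := F) (F4.card_eq.trans hF.symm) 6 2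
  exact EK.congr (e.trans f.symm) (ek_S6 hp)

/-- field `u62` of `RowsKill` -/
theorem row_u62 : ∀ p : ℕ, p = 5 ∨ p = 7 ∨ p = 11 → KillRow.{u} p (.psu 6 2) := by
  intro p hp S _ _ h
  obtain ⟨F, _, _, hF, ⟨e⟩⟩ := h.real
  exact Or.inr (ek_u62 hp (by rw [hF]; norm_num) e)

end Cfsg.Agent.H223.RIM
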