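import Cfsg.Agent.H852.USixElts

/-!
# S4816 (RIM), row `U₆(2)`: the matrices (helper223)
-/

set_option autoImplicit false

namespace Cfsg.Agent.H223.RIM.UMat

open Cfsg Matrix Cfsg.Agent.SporadicA.FieldFour F4 Cfsg.Agent.H852.USixElts

set_option maxRecDepth 100000

def mE0 : M6 := !![o,z,z,z,o,o; z,o,z,z,w,w; z,z,o,z,z,z; z,z,z,o,z,z; o,v,z,z,o,z; o,v,z,z,z,o]
def mE1 : M6 := !![o,z,z,z,z,z; z,o,z,z,z,z; z,z,o,z,w,w; z,z,z,o,v,v; z,z,v,w,o,z; z,z,v,w,z,o]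
def mE2 : M6 := !![o,z,z,z,o,o; z,o,z,z,w,w; z,z,o,z,v,v; z,z,z,o,o,o; o,v,w,o,o,z; o,v,w,o,z,o]
def mE3 : M6 := !![o,z,z,z,w,w; z,o,z,z,v,v; z,z,o,z,v,v; z,z,z,o,o,o; v,w,w,o,o,z; v,w,w,o,z,o]
def mE4 : M6 := !![o,z,z,z,w,w; z,o,z,z,v,v; z,z,o,z,w,w; z,z,z,o,v,v; v,w,v,w,o,z; v,w,v,w,z,o]
def mA0 : M6 := !![o,z,z,z,o,o; z,o,z,z,w,w; z,z,o,z,w,w; z,z,z,o,v,v; o,v,v,w,o,z; o,v,v,w,z,o]
def mA1 : M6 := !![o,z,z,z,o,o; z,o,z,z,w,w; z,z,o,z,o,o; z,z,z,o,w,w; o,v,o,v,o,z; o,v,o,v,z,o]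
def mA2 : M6 := !![o,z,z,z,v,v; z,o,z,z,o,o; z,z,o,z,z,z; z,z,z,o,z,z; w,o,z,z,o,z; w,o,z,z,z,o]
def mA3 : M6 := !![o,z,z,z,z,z; z,o,z,z,z,z; z,z,o,z,o,o; z,z,z,o,w,w; z,z,o,v,o,z; z,z,o,v,z,o]
def mC0 : M6 := !![o,z,z,z,z,z; z,o,z,z,z,z; z,z,o,z,o,o; z,z,z,o,z,z; z,z,o,z,v,w; z,z,o,z,w,v]
def mU_e01 : M6 := !![w,w,z,v,z,z; o,w,z,o,z,z; v,w,z,w,z,z; z,z,v,z,z,z; z,z,z,z,o,z; z,z,z,z,z,o]
def mW_e01 : M6 := !![o,z,z,z,o,o; z,o,z,z,z,z; z,z,o,z,v,v; z,z,z,o,o,o; o,z,w,o,v,w; o,z,w,o,w,v]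
def mU_e02 : M6 := !![w,w,v,z,z,z; o,w,o,z,z,z; z,z,z,o,z,z; w,o,o,z,z,z; z,z,z,z,o,z; z,z,z,z,z,o]
def mW_e02 : M6 := !![o,z,z,z,o,o; z,o,z,z,z,z; z,z,o,z,v,v; z,z,z,o,z,z; o,z,w,z,o,z; o,z,w,z,z,o]
def mU_c1 : M6 := !![v,o,z,v,z,z; v,v,z,o,z,z; z,z,o,z,z,z; w,o,z,o,z,z; z,z,z,z,o,z; z,z,z,z,z,o]
def mW_c1 : M6 := !![o,z,z,z,o,o; z,o,z,z,z,z; z,z,o,z,z,z; z,z,z,o,o,o; o,z,z,o,o,z; o,z,z,o,z,o]
def mU_c2 : M6 := !![w,w,z,v,z,z; o,w,z,o,z,z; z,z,o,z,z,z; w,o,z,o,z,z; z,z,z,z,o,z; z,z,z,z,z,o]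
def mW_c2 : M6 := !![o,z,z,z,z,z; z,o,z,z,z,z; z,z,o,z,z,z; z,z,z,o,o,o; z,z,z,o,v,w; z,z,z,o,w,v]
def mU_c3 : M6 := !![v,w,z,w,z,z; w,v,z,w,z,z; z,z,o,z,z,z; v,v,z,o,z,z; z,z,z,z,o,z; z,z,z,z,z,o]
def mW_c3 : M6 := !![o,z,z,z,v,v; z,o,z,z,z,z; z,z,o,z,z,z; z,z,z,o,v,v; w,z,z,w,o,z; w,z,z,w,z,o]
def mU_ta : M6 := !![v,w,z,w,z,z; z,z,o,z,z,z; o,w,z,o,z,z; o,o,z,w,z,z; z,z,z,z,o,z; z,z,z,z,z,o]
def mW_ta : M6 := !![o,z,z,z,o,o; z,o,z,z,w,w; z,z,o,z,z,z; z,z,z,o,z,z; o,v,z,z,o,z; o,v,z,z,z,o]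
def mU_tc : M6 := !![z,v,w,w,z,z; o,w,z,o,z,z; w,v,w,z,z,z; o,z,o,o,z,z; z,z,z,z,o,z; z,z,z,z,z,o]
def mW_tc : M6 := !![o,z,z,z,w,w; z,o,z,z,o,o; z,z,o,z,w,w; z,z,z,o,o,o; v,o,v,o,o,z; v,o,v,o,z,o]
def mQ4 : M6 := !![o,z,z,z,z,z; z,o,z,z,z,z; z,z,o,z,v,v; z,z,z,o,z,z; z,z,w,z,v,w; z,z,w,z,w,v]
def mW4 : M6 := !![o,z,z,z,o,o; z,o,z,z,w,w; z,z,o,z,o,o; z,z,z,o,v,v; o,v,o,w,o,z; o,v,o,w,z,o]
def mG3a : M6 := !![v,w,z,w,z,z; z,z,o,z,z,z; o,w,z,o,z,z; o,o,z,w,z,z; z,z,z,z,o,z; z,z,z,z,z,o]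
def mG3b : M6 := !![v,z,w,w,z,z; w,o,o,z,z,z; w,o,z,o,z,z; z,w,w,w,z,z; z,z,z,z,o,z; z,z,z,z,z,o]
def mU_cw : M6 := !![w,w,z,v,z,z; o,w,z,o,z,z; z,z,o,z,z,z; w,o,z,o,z,z; z,z,z,z,o,z; z,z,z,z,z,o]
def mW_cw : M6 := !![o,z,z,z,w,w; z,o,z,z,z,z; z,z,o,z,z,z; z,z,z,o,z,z; v,z,z,z,v,w; v,z,z,z,w,v]
def mF4X : M6 := !![w,z,w,v,z,z; w,o,z,v,z,z; z,w,v,o,z,z; v,w,v,z,z,z; z,z,z,z,o,z; z,z,z,z,z,o]
def mB0 : M6 := !![o,z,z,z,o,o; z,o,z,z,v,v; z,z,o,z,w,w; z,z,z,o,o,o; o,w,v,o,o,z; o,w,v,o,z,o]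
def mB1 : M6 := !![o,z,z,z,z,z; z,o,z,z,o,o; z,z,o,z,z,z; z,z,z,o,w,w; z,o,z,v,o,z; z,o,z,v,z,o]
def mB2 : M6 := !![o,o,z,v,o,o; o,z,v,v,w,w; z,w,o,o,w,w; w,w,o,z,v,v; o,v,v,w,o,z; o,v,v,w,z,o]
def mB3 : M6 := !![o,o,z,v,z,z; o,z,v,v,o,o; z,w,o,o,z,z; w,w,o,z,w,w; z,o,z,v,o,z; z,o,z,v,z,o]
def mY7 : M6 := !![o,o,o,z,o,o; w,o,w,w,z,o; v,w,o,z,v,v; o,o,w,o,w,z; z,w,v,o,w,v; o,z,z,z,w,v]
def mU_f1 : M6 := !![o,o,z,v,o,o; o,o,v,z,z,z; z,w,o,o,w,w; w,z,o,o,z,z; o,z,v,z,o,z; o,z,v,z,z,o]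
def mW_f1 : M6 := !![o,z,z,z,w,w; z,o,z,z,z,z; z,z,o,z,o,o; z,z,z,o,z,z; v,z,o,z,o,z; v,z,o,z,z,o]
def mU_f2 : M6 := !![o,v,v,w,o,z; w,z,v,v,o,w; w,w,o,o,z,w; v,w,o,z,w,v; o,o,z,v,o,o; z,v,v,w,o,o]
def mW_f2 : M6 := !![z,v,w,o,w,v; v,v,o,v,z,v; v,v,o,v,w,z; v,z,v,w,w,v; v,o,v,z,z,z; w,v,z,o,z,z]
def mY1 : M6 := !![v,w,w,o,z,v; z,w,z,o,w,z; w,o,z,o,v,v; v,z,z,o,w,z; o,v,w,z,v,v; v,w,v,w,o,z]
def mY2 : M6 := !![w,z,w,w,w,o; v,v,v,z,v,w; v,z,w,z,o,z; o,o,z,o,w,o; z,v,v,v,w,o; w,z,o,z,z,w]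

theorem stE0 : st mE0 * mE0 = 1 := by decide +kernel
theorem stE1 : st mE1 * mE1 = 1 := by decide +kernel
theorem stE2 : st mE2 * mE2 = 1 := by decide +kernel
theorem stE3 : st mE3 * mE3 = 1 := by decide +kernel
theorem stE4 : st mE4 * mE4 = 1 := by decide +kernel
theorem stA0 : st mA0 * mA0 = 1 := by decide +kernel
theorem stA1 : st mA1 * mA1 = 1 := by decide +kernel
theorem stA2 : st mA2 * mA2 = 1 := by decide +kernel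
theorem stA3 : st mA3 * mA3 = 1 := by decide +kernel
theorem stC0 : st mC0 * mC0 = 1 := by decide +kernel
theorem stU_e01 : st mU_e01 * mU_e01 = 1 := by decide +kernel
theorem stW_e01 : st mW_e01 * mW_e01 = 1 := by decide +kernel
theorem stU_e02 : st mU_e02 * mU_e02 = 1 := by decide +kernel
theorem stW_e02 : st mW_e02 * mW_e02 = 1 := by decide +kernel
theorem stU_c1 : st mU_c1 * mU_c1 = 1 := by decide +kernel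
theorem stW_c1 : st mW_c1 * mW_c1 = 1 := by decide +kernel
theorem stU_c2 : st mU_c2 * mU_c2 = 1 := by decide +kernel
theorem stW_c2 : st mW_c2 * mW_c2 = 1 := by decide +kernel
theorem stU_c3 : st mU_c3 * mU_c3 = 1 := by decide +kernel
theorem stW_c3 : st mW_c3 * mW_c3 = 1 := by decide +kernel
theorem stU_ta : st mU_ta * mU_ta = 1 := by decide +kernel
theorem stW_ta : st mW_ta * mW_ta = 1 := by decide +kernel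
theorem stU_tc : st mU_tc * mU_tc = 1 := by decide +kernel
theorem stW_tc : st mW_tc * mW_tc = 1 := by decide +kernel
theorem stQ4 : st mQ4 * mQ4 = 1 := by decide +kernel
theorem stW4 : st mW4 * mW4 = 1 := by decide +kernel
theorem stG3a : st mG3a * mG3a = 1 := by decide +kernel
theorem stG3b : st mG3b * mG3b = 1 := by decide +kernel
theorem stU_cw : st mU_cw * mU_cw = 1 := by decide +kernel
theorem stW_cw : st mW_cw * mW_cw = 1 := by decide +kernel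
theorem stF4X : st mF4X * mF4X = 1 := by decide +kernel
theorem stB0 : st mB0 * mB0 = 1 := by decide +kernel
theorem stB1 : st mB1 * mB1 = 1 := by decide +kernel
theorem stB2 : st mB2 * mB2 = 1 := by decide +kernel
theorem stB3 : st mB3 * mB3 = 1 := by decide +kernel
theorem stY7 : st mY7 * mY7 = 1 := by decide +kernel
theorem stU_f1 : st mU_f1 * mU_f1 = 1 := by decide +kernel
theorem stW_f1 : st mW_f1 * mW_f1 = 1 := by decide +kernel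
theorem stU_f2 : st mU_f2 * mU_f2 = 1 := by decide +kernel
theorem stW_f2 : st mW_f2 * mW_f2 = 1 := by decide +kernel
theorem stY1 : st mY1 * mY1 = 1 := by decide +kernel
theorem stY2 : st mY2 * mY2 = 1 := by decide +kernel

theorem pwE0 : mE0 ^ 2 = 1 := by decide +kernel
theorem pwE1 : mE1 ^ 2 = 1 := by decide +kernel
theorem pwE2 : mE2 ^ 2 = 1 := by decide +kernel
theorem pwE3 : mE3 ^ 2 = 1 := by decide +kernel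
theorem pwE4 : mE4 ^ 2 = 1 := by decide +kernel
theorem pwA0 : mA0 ^ 2 = 1 := by decide +kernel
theorem pwA1 : mA1 ^ 2 = 1 := by decide +kernel
theorem pwA2 : mA2 ^ 2 = 1 := by decide +kernel
theorem pwA3 : mA3 ^ 2 = 1 := by decide +kernel
theorem pwC0 : mC0 ^ 4 = 1 := by decide +kernel
theorem pwU_e01 : mU_e01 ^ 4 = 1 := by decide +kernel
theorem pwW_e01 : mW_e01 ^ 4 = 1 := by decide +kernel
theorem pwU_e02 : mU_e02 ^ 4 = 1 := by decide +kernel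
theorem pwW_e02 : mW_e02 ^ 2 = 1 := by decide +kernel
theorem pwU_c1 : mU_c1 ^ 4 = 1 := by decide +kernel
theorem pwW_c1 : mW_c1 ^ 2 = 1 := by decide +kernel
theorem pwU_c2 : mU_c2 ^ 4 = 1 := by decide +kernel
theorem pwW_c2 : mW_c2 ^ 4 = 1 := by decide +kernel
theorem pwU_c3 : mU_c3 ^ 4 = 1 := by decide +kernel
theorem pwW_c3 : mW_c3 ^ 2 = 1 := by decide +kernel
theorem pwU_ta : mU_ta ^ 5 = 1 := by decide +kernel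
theorem pwW_ta : mW_ta ^ 2 = 1 := by decide +kernel
theorem pwU_tc : mU_tc ^ 5 = 1 := by decide +kernel
theorem pwW_tc : mW_tc ^ 2 = 1 := by decide +kernel
theorem pwQ4 : mQ4 ^ 4 = 1 := by decide +kernel
theorem pwW4 : mW4 ^ 2 = 1 := by decide +kernel
theorem pwG3a : mG3a ^ 5 = 1 := by decide +kernel
theorem pwG3b : mG3b ^ 4 = 1 := by decide +kernel
theorem pwU_cw : mU_cw ^ 4 = 1 := by decide +kernel
theorem pwW_cw : mW_cw ^ 4 = 1 := by decide +kernel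
theorem pwF4X : mF4X ^ 4 = 1 := by decide +kernel
theorem pwB0 : mB0 ^ 2 = 1 := by decide +kernel
theorem pwB1 : mB1 ^ 2 = 1 := by decide +kernel
theorem pwB2 : mB2 ^ 2 = 1 := by decide +kernel
theorem pwB3 : mB3 ^ 2 = 1 := by decide +kernel
theorem pwY7 : mY7 ^ 7 = 1 := by decide +kernel
theorem pwU_f1 : mU_f1 ^ 2 = 1 := by decide +kernel
theorem pwW_f1 : mW_f1 ^ 2 = 1 := by decide +kernel
theorem pwU_f2 : mU_f2 ^ 2 = 1 := by decide +kernel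
theorem pwW_f2 : mW_f2 ^ 4 = 1 := by decide +kernel
theorem pwY1 : mY1 ^ 11 = 1 := by decide +kernel
theorem pwY2 : mY2 ^ 11 = 1 := by decide +kernel

def sE0 : SU 6 F4 2 := mk mE0 stE0 (det_one_of_pow 2 pwE0 (by decide))
def sE1 : SU 6 F4 2 := mk mE1 stE1 (det_one_of_pow 2 pwE1 (by decide))
def sE2 : SU 6 F4 2 := mk mE2 stE2 (det_one_of_pow 2 pwE2 (by decide))
def sE3 : SU 6 F4 2 := mk mE3 stE3 (det_one_of_pow 2 pwE3 (by decide))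
def sE4 : SU 6 F4 2 := mk mE4 stE4 (det_one_of_pow 2 pwE4 (by decide))
def sA0 : SU 6 F4 2 := mk mA0 stA0 (det_one_of_pow 2 pwA0 (by decide))
def sA1 : SU 6 F4 2 := mk mA1 stA1 (det_one_of_pow 2 pwA1 (by decide))
def sA2 : SU 6 F4 2 := mk mA2 stA2 (det_one_of_pow 2 pwA2 (by decide))
def sA3 : SU 6 F4 2 := mk mA3 stA3 (det_one_of_pow 2 pwA3 (by decide))
def sC0 : SU 6 F4 2 := mk mC0 stC0 (det_one_of_pow 4 pwC0 (by decide))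
def sU_e01 : SU 6 F4 2 := mk mU_e01 stU_e01 (det_one_of_pow 4 pwU_e01 (by decide))
def sW_e01 : SU 6 F4 2 := mk mW_e01 stW_e01 (det_one_of_pow 4 pwW_e01 (by decide))
def sU_e02 : SU 6 F4 2 := mk mU_e02 stU_e02 (det_one_of_pow 4 pwU_e02 (by decide))
def sW_e02 : SU 6 F4 2 := mk mW_e02 stW_e02 (det_one_of_pow 2 pwW_e02 (by decide))
def sU_c1 : SU 6 F4 2 := mk mU_c1 stU_c1 (det_one_of_pow 4 pwU_c1 (by decide))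
def sW_c1 : SU 6 F4 2 := mk mW_c1 stW_c1 (det_one_of_pow 2 pwW_c1 (by decide))
def sU_c2 : SU 6 F4 2 := mk mU_c2 stU_c2 (det_one_of_pow 4 pwU_c2 (by decide))
def sW_c2 : SU 6 F4 2 := mk mW_c2 stW_c2 (det_one_of_pow 4 pwW_c2 (by decide))
def sU_c3 : SU 6 F4 2 := mk mU_c3 stU_c3 (det_one_of_pow 4 pwU_c3 (by decide))
def sW_c3 : SU 6 F4 2 := mk mW_c3 stW_c3 (det_one_of_pow 2 pwW_c3 (by decide))
def sU_ta : SU 6 F4 2 := mk mU_ta stU_ta (det_one_of_pow 5 pwU_ta (by decide))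
def sW_ta : SU 6 F4 2 := mk mW_ta stW_ta (det_one_of_pow 2 pwW_ta (by decide))
def sU_tc : SU 6 F4 2 := mk mU_tc stU_tc (det_one_of_pow 5 pwU_tc (by decide))
def sW_tc : SU 6 F4 2 := mk mW_tc stW_tc (det_one_of_pow 2 pwW_tc (by decide))
def sQ4 : SU 6 F4 2 := mk mQ4 stQ4 (det_one_of_pow 4 pwQ4 (by decide))
def sW4 : SU 6 F4 2 := mk mW4 stW4 (det_one_of_pow 2 pwW4 (by decide))
def sG3a : SU 6 F4 2 := mk mG3a stG3a (det_one_of_pow 5 pwG3a (by decide))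
def sG3b : SU 6 F4 2 := mk mG3b stG3b (det_one_of_pow 4 pwG3b (by decide))
def sU_cw : SU 6 F4 2 := mk mU_cw stU_cw (det_one_of_pow 4 pwU_cw (by decide))
def sW_cw : SU 6 F4 2 := mk mW_cw stW_cw (det_one_of_pow 4 pwW_cw (by decide))
def sF4X : SU 6 F4 2 := mk mF4X stF4X (det_one_of_pow 4 pwF4X (by decide))
def sB0 : SU 6 F4 2 := mk mB0 stB0 (det_one_of_pow 2 pwB0 (by decide))
def sB1 : SU 6 F4 2 := mk mB1 stB1 (det_one_of_pow 2 pwB1 (by decide))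
def sB2 : SU 6 F4 2 := mk mB2 stB2 (det_one_of_pow 2 pwB2 (by decide))
def sB3 : SU 6 F4 2 := mk mB3 stB3 (det_one_of_pow 2 pwB3 (by decide))
def sY7 : SU 6 F4 2 := mk mY7 stY7 (det_one_of_pow 7 pwY7 (by decide))
def sU_f1 : SU 6 F4 2 := mk mU_f1 stU_f1 (det_one_of_pow 2 pwU_f1 (by decide))
def sW_f1 : SU 6 F4 2 := mk mW_f1 stW_f1 (det_one_of_pow 2 pwW_f1 (by decide))
def sU_f2 : SU 6 F4 2 := mk mU_f2 stU_f2 (det_one_of_pow 2 pwU_f2 (by decide))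
def sW_f2 : SU 6 F4 2 := mk mW_f2 stW_f2 (det_one_of_pow 4 pwW_f2 (by decide))
def sY1 : SU 6 F4 2 := mk mY1 stY1 (det_one_of_pow 11 pwY1 (by decide))
def sY2 : SU 6 F4 2 := mk mY2 stY2 (det_one_of_pow 11 pwY2 (by decide))

end Cfsg.Agent.H223.RIM.UMat
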