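import Cfsg.Agent.H257.RIM.ATool

/-!
# S4816 (RIM), row `U₆(2)`: weights of five commuting involutions (helper223)
-/

set_option autoImplicit false
set_option linter.unusedSectionVars false

namespace Cfsg.Agent.H223.RIM

open Cfsg.Agent.H257.RIM

/-- bits -/
def bt (i : Fin 32) (k : ℕ) : Bool := i.val.testBit k

/-- exclusive or -/
def xr (j i : Fin 32) : Fin 32 := ⟨(j.val ^^^ i.val) % 32, Nat.mod_lt _ (by norm_num)⟩

/-- parity of the number of bits -/
def pty (n : ℕ) : Bool := xor (n.testBit 0) (xor (n.testBit 1) (xor (n.testBit 2) (xor (n.testBit 3) (n.testBit 4))))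

/-- characters -/
def ch (c i : Fin 32) : ℤ := bif pty (c.val &&& i.val) then -1 else 1

/-- `c` if `b`, else `0` -/
def sel (b : Bool) (c : Fin 32) : Fin 32 := bif b then c else 0

/-- the linear map with images `m` -/
def sg (m : Fin 5 → Fin 32) (i : Fin 32) : Fin 32 :=
  xr (sel (bt i 0) (m 0)) (xr (sel (bt i 1) (m 1)) (xr (sel (bt i 2) (m 2)) (xr (sel (bt i 3) (m 3)) (sel (bt i 4) (m 4)))))

set_option maxRecDepth 100000

theorem bt_xr : ∀ j i : Fin 32, ∀ k : Fin 5, bt (xr j i) k = xor (bt j k) (bt i k) := by decide +kernel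
theorem xr_self : ∀ j i : Fin 32, xr j (xr j i) = i := by decide +kernel
theorem ch_xr : ∀ c j i : Fin 32, ch c (xr j i) = ch c j * ch c i := by decide +kernel
theorem ch_symm : ∀ c i : Fin 32, ch c i = ch i c := by decide +kernel
theorem ch_sq : ∀ c j : Fin 32, ch c j * ch c j = 1 := by decide +kernel
theorem ch_zero : ∀ i : Fin 32, ch 0 i = 1 := by decide +kernel
theorem ch_sum : ∀ i : Fin 32, (∑ c : Fin 32, ch c i) = if i = 0 then 32 else 0 := by decide +kernel
theorem xr_eq : ∀ c c' : Fin 32, (xr c c' = 0) ↔ c = c' := by decide +kernel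

section

variable {H : Type*} [Group H]

/-- `s` or `1` -/
def pb (s : H) (b : Bool) : H := bif b then s else 1

/-- the elements -/
def el (s : Fin 5 → H) (i : Fin 32) : H :=
  pb (s 0) (bt i 0) * (pb (s 1) (bt i 1) * (pb (s 2) (bt i 2) * (pb (s 3) (bt i 3) * pb (s 4) (bt i 4))))

theorem pb_xor {s : H} (h : s * s = 1) (a b : Bool) : pb s (xor a b) = pb s a * pb s b := by
  cases a <;> cases b <;> simp [pb, h]

theorem pb_comm {s t : H} (h : s * t = t * s) (a b : Bool) : Commute (pb s a) (pb t b) := by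
  cases a <;> cases b
  · exact Commute.refl _
  · exact Commute.one_left _
  · exact Commute.one_right _
  · exact h

theorem el_xr {s : Fin 5 → H} (h1 : ∀ i, s i * s i = 1) (h2 : ∀ i j, s i * s j = s j * s i) (j i : Fin 32) :
    el s (xr j i) = el s j * el s i := by
  have e0 := bt_xr j i 0
  have e1 := bt_xr j i 1
  have e2 := bt_xr j i 2
  have e3 := bt_xr j i 3
  have e4 := bt_xr j i 4
  simp only [Fin.isValue, Fin.coe_ofNat_eq_mod, Nat.zero_mod, Nat.reduceMod] at e0 e1 e2 e3 e4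
  unfold el
  rw [e0, e1, e2, e3, e4, pb_xor (h1 0), pb_xor (h1 1), pb_xor (h1 2), pb_xor (h1 3), pb_xor (h1 4)]
  have c : ∀ k l a b, Commute (pb (s k) a) (pb (s l) b) := fun k l a b => pb_comm (h2 k l) a b
  rw [(c 3 4 _ _).mul_mul_mul_comm]
  rw [((c 2 3 _ _).mul_right (c 2 4 _ _)).mul_mul_mul_comm]
  rw [((c 1 2 _ _).mul_right ((c 1 3 _ _).mul_right (c 1 4 _ _))).mul_mul_mul_comm]
  rw [((c 0 1 _ _).mul_right ((c 0 2 _ _).mul_right ((c 0 3 _ _).mul_right (c 0 4 _ _)))).mul_mul_mul_comm]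

theorem el_zero (s : Fin 5 → H) : el s 0 = 1 := by
  simp [el, bt, pb]

theorem el_gen (s : Fin 5 → H) : el s 1 = s 0 ∧ el s 2 = s 1 ∧ el s 4 = s 2 ∧ el s 8 = s 3 ∧ el s 16 = s 4 := by
  refine ⟨?_, ?_, ?_, ?_, ?_⟩ <;> simp [el, bt, pb, Nat.testBit, Nat.shiftRight_eq_div_pow]

theorem adata {s : Fin 5 → H} (h1 : ∀ i, s i * s i = 1) (h2 : ∀ i j, s i * s j = s j * s i) :
    AData (el s) ch xr 0 0 32 where
  hm j := (show Function.Involutive (xr j) from xr_self j).bijective
  el0 := el_zero s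
  elm := el_xr h1 h2
  chm := ch_xr
  chs := ch_sq
  ch0 := ch_zero
  orth c c' := by
    have e : ∀ i, ch c i * ch c' i = ch i (xr c c') := by
      intro i
      rw [ch_xr, ch_symm c i, ch_symm c' i]
    rw [Finset.sum_congr rfl fun i _ => e i, ch_sum]
    by_cases h : c = c'
    · rw [if_pos h, if_pos ((xr_eq c c').2 h)]
      rfl
    · rw [if_neg h, if_neg fun h' => h ((xr_eq c c').1 h')]
  orth' := ch_sum

theorem el_conj {s : Fin 5 → H} (h1 : ∀ i, s i * s i = 1) (h2 : ∀ i j, s i * s j = s j * s i) {g : H}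
    {m : Fin 5 → Fin 32} (hg : ∀ k, g * s k = el s (m k) * g) (i : Fin 32) : el s (sg m i) * g = g * el s i := by
  have key : ∀ k b, g * pb (s k) b = el s (sel b (m k)) * g := by
    intro k b
    cases b
    · simp [pb, sel, el_zero]
    · exact hg k
  unfold sg
  rw [el_xr h1 h2, el_xr h1 h2, el_xr h1 h2, el_xr h1 h2]
  conv_rhs => unfold el
  rw [← mul_assoc g, key, mul_assoc (el s _) g, ← mul_assoc g, key, mul_assoc (el s _) g, ← mul_assoc g, key,
    mul_assoc (el s _) g, ← mul_assoc g, key, mul_assoc (el s _) g, key]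
  simp only [mul_assoc]

theorem rel_of {s : Fin 5 → H} (h1 : ∀ i, s i * s i = 1) (h2 : ∀ i j, s i * s j = s j * s i) {g : H}
    {m n : Fin 5 → Fin 32} (hg : ∀ k, g * s k = el s (m k) * g) (hm : ∀ i j, sg m i = sg m j → i = j)
    (hn : ∀ c i, ch (sg n c) (sg m i) = ch c i) (c : Fin 32) : Rel (el s) g (ch c) (ch (sg n c)) :=
  ⟨sg m, Finite.injective_iff_bijective.1 fun i j h => hm i j h, el_conj h1 h2 hg, hn c⟩

theorem rel_iter {s : Fin 5 → H} {g : H} {n : Fin 5 → Fin 32} (h : ∀ c, Rel (el s) g (ch c) (ch (sg n c))) (k : ℕ)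
    (c : Fin 32) : Rel (el s) (g ^ k) (ch c) (ch ((sg n)^[k] c)) := by
  induction k with
  | zero => rw [pow_zero]; exact Rel.refl _ _
  | succ k ih =>
    rw [pow_succ', Function.iterate_succ_apply']
    exact ih.trans (h _)

end

section bound

variable {p : ℕ} [Fact p.Prime] {H V : Type*} [Group H] [Finite H] [AddCommGroup V] [Finite V] [DistribMulAction H V]
  {s : Fin 5 → H}

/-- the order of a weight space -/
noncomputable def vc (V : Type*) [AddCommGroup V] [DistribMulAction H V] (s : Fin 5 → H) (c : Fin 32) : ℕ :=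
  Nat.card (E (V := V) (el s) (ch c)).range

theorem vc_pos (c : Fin 32) : 0 < vc V s c := Nat.card_pos

theorem E_smul (h1 : ∀ i, s i * s i = 1) (h2 : ∀ i j, s i * s j = s j * s i) (c j : Fin 32) (v : V) :
    E (el s) (ch c) (el s j • v) = ch c j • E (el s) (ch c) v := by
  have h := adata h1 h2
  rw [E_apply, E_apply, Finset.smul_sum]
  rw [← Function.Bijective.sum_comp (h.hm j) (fun i => ch c j • ch c i • el s i • v)]
  refine Finset.sum_congr rfl fun i _ => ?_
  have hx : ∀ a b : Fin 32, xr a b = xr b a := by decide +kernel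
  calc ch c i • el s i • el s j • v = ch c i • el s (xr j i) • v := by
        rw [smul_smul (el s i), ← el_xr h1 h2, hx i j]
    _ = ch c j • ch c (xr j i) • el s (xr j i) • v := by
        rw [ch_xr, smul_smul (ch c j), ← mul_assoc, ch_sq, one_mul]

theorem vc_le_of_rel {g : H} {c c' : Fin 32} (h : Rel (el s) g (ch c) (ch c')) : vc V s c ≤ vc V s c' := by
  refine Nat.card_le_card_of_injective
    (fun x : (E (V := V) (el s) (ch c)).range => (⟨g • (x : V), by
      obtain ⟨v, hv⟩ := x.2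
      exact ⟨g • v, by rw [← hv, E_conj h]⟩⟩ : (E (V := V) (el s) (ch c')).range)) ?_
  intro x y hxy
  have h1 : g • (x : V) = g • (y : V) := congrArg Subtype.val hxy
  exact Subtype.ext (MulAction.injective g h1)

theorem vc_eq_of_rel {g : H} {c c' : Fin 32} (h : Rel (el s) g (ch c) (ch c')) : vc V s c = vc V s c' :=
  le_antisymm (vc_le_of_rel h) (vc_le_of_rel h.symm)

theorem vc_pow (hV : ∀ v : V, p • v = 0) (c : Fin 32) : ∃ m : ℕ, vc V s c = p ^ m := by
  have hp : IsPGroup p (Multiplicative (E (V := V) (el s) (ch c)).range) := by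
    intro v
    refine ⟨1, ?_⟩
    rw [pow_one]
    exact Subtype.ext (hV _)
  obtain ⟨m, hm⟩ := IsPGroup.iff_card.1 hp
  exact ⟨m, hm⟩

theorem vc_eq_one (hV : ∀ v : V, p • v = 0) (hp2 : p ≠ 2) (h1 : ∀ i, s i * s i = 1) (h2 : ∀ i j, s i * s j = s j * s i)
    {c j : Fin 32} (hj : ∀ v : V, el s j • v = v) (hc : ch c j = -1) : vc V s c = 1 := by
  rw [vc, AddSubgroup.card_eq_one, eq_bot_iff]
  rintro _ ⟨v, rfl⟩
  have h := E_smul h1 h2 c j v
  rw [hj, hc, neg_one_smul] at h
  rw [AddSubgroup.mem_bot]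
  have h3 : (2 : ℤ) • E (el s) (ch c) v = (2 : ℤ) • (0 : V) := by
    rw [two_zsmul, smul_zero]
    nth_rw 2 [h]
    exact add_neg_cancel _
  exact smul_inj hV (n := 2) (fun hd => hp2 ((Nat.prime_dvd_prime_iff_eq Fact.out Nat.prime_two).1 hd)) h3

theorem card_V' (hV : ∀ v : V, p • v = 0) (hp2 : p ≠ 2) (h1 : ∀ i, s i * s i = 1)
    (h2 : ∀ i j, s i * s j = s j * s i) : Nat.card V = ∏ c, vc V s c := by
  refine card_V (adata h1 h2) hV ?_
  intro hd
  have h3 : p ∣ 2 ^ 5 := hd
  exact hp2 ((Nat.prime_dvd_prime_iff_eq Fact.out Nat.prime_two).1 ((Fact.out : p.Prime).dvd_of_dvd_pow h3))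

theorem hn32 (hp2 : p ≠ 2) : ¬ p ∣ 32 := by
  intro hd
  have h3 : p ∣ 2 ^ 5 := hd
  exact hp2 ((Nat.prime_dvd_prime_iff_eq Fact.out Nat.prime_two).1 ((Fact.out : p.Prime).dvd_of_dvd_pow h3))

theorem hn2 (hp2 : p ≠ 2) : ¬ p ∣ 2 := fun hd => hp2 ((Nat.prime_dvd_prime_iff_eq Fact.out Nat.prime_two).1 hd)

/-- the fixed points of a subgroup -/
theorem fx_bound (hV : ∀ v : V, p • v = 0) (hp2 : p ≠ 2) (h1 : ∀ i, s i * s i = 1)
    (h2 : ∀ i j, s i * s j = s j * s i) (P : Subgroup H) (R : Finset (Fin 32))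
    (hR : ∀ c, ∃ r ∈ R, ∃ g ∈ P, Rel (el s) g (ch r) (ch c)) :
    Nat.card (Fx V P) * ∏ c ∈ Rᶜ, vc V s c ≤ Nat.card V := by
  have h3 : Nat.card (Fx V P) ≤ ∏ c ∈ R, vc V s c := card_Fx_le (adata h1 h2) hV (hn32 hp2) P R hR
  rw [card_V' hV hp2 h1 h2, ← Finset.prod_mul_prod_compl R]
  exact Nat.mul_le_mul_right _ h3

/-- the fixed points of an element of `A`, lower bound of the index -/
theorem fix_bound (hV : ∀ v : V, p • v = 0) (hp2 : p ≠ 2) (h1 : ∀ i, s i * s i = 1)
    (h2 : ∀ i j, s i * s j = s j * s i) (j : Fin 32) :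
    Nat.card {v : V // el s j • v = v} * ∏ c ∈ Finset.univ.filter (fun c => ch c j = -1), vc V s c ≤ Nat.card V := by
  have hE : ∀ v : V, el s j • v = v → ∀ c, ch c j = -1 → E (el s) (ch c) v = 0 := by
    intro v hv c hc
    have h := E_smul h1 h2 c j v
    rw [hv, hc, neg_one_smul] at h
    have h3 : (2 : ℤ) • E (el s) (ch c) v = (2 : ℤ) • (0 : V) := by
      rw [two_zsmul, smul_zero]
      nth_rw 2 [h]
      exact add_neg_cancel _
    exact smul_inj hV (hn2 hp2) h3
  have h3 : Nat.card {v : V // el s j • v = v} ≤ ∏ c ∈ (Finset.univ.filter (fun c => ch c j = -1))ᶜ, vc V s c := by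
    rw [← Finset.prod_coe_sort _ (fun c => vc V s c)]
    simp only [vc]
    rw [← Nat.card_pi]
    refine Nat.card_le_card_of_injective
      (fun v c => (⟨E (el s) (ch c) (v : V), v, rfl⟩ : (E (V := V) (el s) (ch c)).range)) ?_
    intro v w hvw
    refine Subtype.ext (inj_of (adata h1 h2) hV (hn32 hp2) fun c => ?_)
    by_cases hc : ch c j = -1
    · rw [hE _ v.2 _ hc, hE _ w.2 _ hc]
    · exact congrArg Subtype.val (congrFun hvw ⟨c, by simpa using hc⟩)
  rw [card_V' hV hp2 h1 h2, ← Finset.prod_compl_mul_prod (Finset.univ.filter (fun c => ch c j = -1))]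
  exact Nat.mul_le_mul_right _ h3

/-- the fixed points of an element of `A`, upper bound of the index -/
theorem fix_bound' (hV : ∀ v : V, p • v = 0) (hp2 : p ≠ 2) (h1 : ∀ i, s i * s i = 1)
    (h2 : ∀ i j, s i * s j = s j * s i) (j : Fin 32) :
    Nat.card V ≤ Nat.card {v : V // el s j • v = v} *
      ∏ c ∈ Finset.univ.filter (fun c => ch c j = -1), vc V s c := by
  have hjj : el s j * el s j = 1 := by
    rw [← el_xr h1 h2, show xr j j = 0 from by revert j; decide +kernel, el_zero]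
  rw [← Finset.prod_coe_sort _ (fun c => vc V s c)]
  simp only [vc]
  rw [← Nat.card_pi, ← Nat.card_prod]
  refine Nat.card_le_card_of_injective (fun v : V => ((⟨v + el s j • v, by
      rw [smul_add, smul_smul, hjj, one_smul, add_comm]⟩ : {v : V // el s j • v = v}),
      fun c : (Finset.univ.filter (fun c => ch c j = -1) : Finset (Fin 32)) =>
        (⟨E (el s) (ch c) v, v, rfl⟩ : (E (V := V) (el s) (ch c)).range))) ?_
  intro v w hvw
  obtain ⟨ha, hb⟩ := Prod.mk.inj hvw
  refine inj_of (adata h1 h2) hV (hn32 hp2) fun c => ?_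
  by_cases hc : ch c j = -1
  · exact congrArg Subtype.val (congrFun hb ⟨c, by simpa using hc⟩)
  · have hc1 : ch c j = 1 := by
      have : ∀ c j : Fin 32, ch c j = -1 ∨ ch c j = 1 := by decide +kernel
      exact (this c j).resolve_left hc
    have h3 : v + el s j • v = w + el s j • w := congrArg Subtype.val ha
    have h4 := congrArg (E (el s) (ch c)) h3
    rw [map_add, map_add, E_smul h1 h2, E_smul h1 h2, hc1, one_smul, one_smul, ← two_zsmul, ← two_zsmul] at h4
    exact smul_inj hV (hn2 hp2) h4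

/-- the weight space is not zero -/
def NZ (V : Type*) [AddCommGroup V] [DistribMulAction H V] (s : Fin 5 → H) (c : Fin 32) : Prop :=
  ∃ v : V, E (el s) (ch c) v ≠ 0

theorem NZ.rel {g : H} {c c' : Fin 32} (h : Rel (el s) g (ch c) (ch c')) (hc : NZ V s c) : NZ V s c' := by
  obtain ⟨v, hv⟩ := hc
  refine ⟨g • v, fun h0 => hv ?_⟩
  have h1 := E_conj h v
  rw [h0] at h1
  exact (smul_eq_zero_iff_eq g).1 h1

theorem NZ.le (hV : ∀ v : V, p • v = 0) {c : Fin 32} (h : NZ V s c) : p ≤ vc V s c := by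
  obtain ⟨v, hv⟩ := h
  let x : (E (V := V) (el s) (ch c)).range := ⟨E (el s) (ch c) v, v, rfl⟩
  have h5 : addOrderOf x = p := by
    refine addOrderOf_eq_prime ?_ ?_
    · exact Subtype.ext (hV _)
    · intro h0
      exact hv (congrArg Subtype.val h0)
  have h6 : p ≤ Nat.card (E (V := V) (el s) (ch c)).range := by
    rw [← h5]
    exact Nat.le_of_dvd Nat.card_pos (addOrderOf_dvd_natCard x)
  exact h6

/-- some weight space of an element which acts non-trivially -/
theorem exists_NZ (hV : ∀ v : V, p • v = 0) (hp2 : p ≠ 2) (h1 : ∀ i, s i * s i = 1)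
    (h2 : ∀ i j, s i * s j = s j * s i) {j : Fin 32} {v : V} (hv : el s j • v ≠ v) : ∃ c, ch c j = -1 ∧ NZ V s c := by
  by_contra hcon
  push Not at hcon
  apply hv
  refine inj_of (adata h1 h2) hV (hn32 hp2) fun c => ?_
  rw [E_smul h1 h2]
  by_cases hc : ch c j = -1
  · have h3 : E (el s) (ch c) v = 0 := by
      by_contra h0
      exact hcon c hc ⟨v, h0⟩
    rw [h3, smul_zero]
  · have hc1 : ch c j = 1 := by
      have : ∀ c j : Fin 32, ch c j = -1 ∨ ch c j = 1 := by decide +kernel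
      exact (this c j).resolve_left hc
    rw [hc1, one_smul]

end bound

end Cfsg.Agent.H223.RIM
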